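import Groth.Agent.L23.IntCover.Scheme
import Groth.Agent.L23.NormGlobal
import Groth.Agent.L23.QsTop
import Groth.Agent.L23.OpenCharts
import Groth.Agent.L23.EtaleMono

/-!
# A scheme integral and surjective over a quasi-compact quasi-separated space
-/

universe u

open CategoryTheory CategoryTheory.Limits AlgebraicGeometry Opposite AlgSp

set_option backward.isDefEq.respectTransparency.types false
set_option backward.isDefEq.respectTransparency false
set_option linter.style.haveILetI false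

namespace Groth.L23.IntCover

variable {S : Scheme.{u}} {X X' : Sp S}

/-- A surjective family of geometric points of an affine scheme. -/
theorem exists_absClosed_cover (V : Scheme.{u}) [IsAffine V] :
    ∃ (E : CommRingCat.{u}) (s : Spec E ⟶ V), IsAbsClosed E ∧ Surjective s := by
  let k : V → Type u := fun w => AlgebraicClosure (V.residueField w)
  let pt : ∀ w, Spec (CommRingCat.of (k w)) ⟶ V := fun w =>
    Spec.map (CommRingCat.ofHom (algebraMap (V.residueField w) (k w))) ≫ V.fromSpecResidueField w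
  let E : CommRingCat.{u} := CommRingCat.of (∀ w, k w)
  let φ : Γ(V, ⊤) ⟶ E := CommRingCat.ofHom (RingHom.pi fun w => ((pt w).appTop ≫ (Scheme.ΓSpecIso _).hom).hom)
  let s : Spec E ⟶ V := Spec.map φ ≫ V.isoSpec.inv
  refine ⟨E, s, isAbsClosed_pi k, ⟨fun w => ?_⟩⟩
  let pr : E ⟶ CommRingCat.of (k w) := CommRingCat.ofHom (Pi.evalRingHom k w)
  have hφ : φ ≫ pr = (pt w).appTop ≫ (Scheme.ΓSpecIso _).hom := by ext; rfl
  have h : Spec.map pr ≫ s = pt w := by
    apply ext_of_isAffine
    simp only [s, Scheme.Hom.comp_appTop, Norm.isoSpec_inv_appTop', Category.assoc]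
    rw [← Scheme.ΓSpecIso_inv_naturality_assoc, ← Scheme.ΓSpecIso_inv_naturality, ← Category.assoc, hφ,
      Category.assoc, Iso.hom_inv_id, Category.comp_id]
  let t : Spec (CommRingCat.of (k w)) := IsLocalRing.closedPoint (k w)
  refine ⟨Spec.map pr t, ?_⟩
  rw [← Scheme.Hom.comp_apply, h]
  exact V.fromSpecResidueField_apply w _

variable {EV : Over S} {q : (yon S).obj EV ⟶ X} {ν : X' ⟶ X} {f' : (yon S).obj EV ⟶ X'}

/-- The normalization over one chart. -/
structure Piece (ν : X' ⟶ X) (f' : (yon S).obj EV ⟶ X') (c : Norm.Chart X) : Type (u + 1) where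
  N : Over S
  P : Over S
  νN : N ⟶ c.V
  n : (yon S).obj N ⟶ X'
  sN : IsPullback n ((yon S).map νN) ν c.v
  fE : P ⟶ EV
  fV : P ⟶ c.V
  sP : IsPullback ((yon S).map fE) ((yon S).map fV) (f' ≫ ν) c.v
  γ : P ⟶ N
  γn : (yon S).map γ ≫ n = (yon S).map fE ≫ f'
  γν : γ ≫ νN = fV

theorem exists_piece (hX : IsAlgSpace X) (hint : IsIntegralMor ν) (c : Norm.Chart X) :
    Nonempty (Piece ν f' c) := by
  obtain ⟨N, νN, n, sN, -, -⟩ := hint (Z := c.V) c.aff c.v
  obtain ⟨P, fE, fV, sP⟩ := exists_isPullback_of_representable (hX.representable_from_yon (f' ≫ ν)) c.v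
  obtain ⟨γ, hγ⟩ := (yon S).map_surjective (sN.lift ((yon S).map fE ≫ f') ((yon S).map fV)
    (by rw [Category.assoc]; exact sP.w))
  exact ⟨⟨N, P, νN, n, sN, fE, fV, sP, γ, by rw [hγ, sN.lift_fst],
    (yon S).map_injective (by rw [Functor.map_comp, hγ, sN.lift_snd])⟩⟩

variable {c : Norm.Chart X} (D : Piece ν f' c)

theorem Piece.compactSpace [QuasiSeparatedSpace S] [CompactSpace EV.left] (hqs : IsQuasiSeparatedSp X) :
    CompactSpace D.P.left :=
  compactSpace_of_qs hqs D.sP

theorem Piece.etale : Etale D.fE.left := repWith_prop c.etale D.sP.flip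

theorem isSeparated_of_isAffine_source {V : Over S} [IsAffine V.left] : IsSeparated V.hom := by
  haveI : IsSeparated (V.hom ≫ terminal.from S) := by
    rw [show V.hom ≫ terminal.from S = terminal.from V.left from Subsingleton.elim _ _]
    infer_instance
  exact IsSeparated.of_comp V.hom (terminal.from S)

theorem Piece.separated : IsSeparated D.fE.left := by
  let l : D.P ⟶ EV ⨯ c.V := prod.lift D.fE D.fV
  haveI : Mono l := ⟨fun a b h => (yon S).map_injective (D.sP.hom_ext
    (by rw [← Functor.map_comp, ← Functor.map_comp]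
        exact congrArg _ (by simpa [l] using h =≫ prod.fst))
    (by rw [← Functor.map_comp, ← Functor.map_comp]
        exact congrArg _ (by simpa [l] using h =≫ prod.snd)))⟩
  haveI : Mono l.left := inferInstanceAs (Mono ((Over.forget S).map l))
  have sq := (IsPullback.of_is_product (limit.isLimit (pair EV c.V))
    (terminalIsTerminal : IsTerminal (⊤_ Over S))).map (Over.forget S)
  haveI : IsSeparated (terminal.from c.V).left := by
    haveI : IsSeparated ((terminal.from c.V).left ≫ (⊤_ Over S).hom) := by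
      rw [Over.w]; exact isSeparated_of_isAffine_source
    exact IsSeparated.of_comp _ (⊤_ Over S).hom
  haveI : IsSeparated (prod.fst : EV ⨯ c.V ⟶ EV).left :=
    MorphismProperty.of_isPullback sq.flip ‹IsSeparated (terminal.from c.V).left›
  rw [show D.fE = l ≫ prod.fst from (prod.lift_fst _ _).symm, Over.comp_left]
  infer_instance

theorem Piece.norm [QuasiSeparatedSpace S] [CompactSpace EV.left] (hqs : IsQuasiSeparatedSp X)
    (hloc : Norm.IsLocNorm q ν f') (hq : IsQuasiSeparatedMor q) :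
    Function.Injective D.γ.left.appTop.hom ∧
      ∀ e : Γ(D.P.left, ⊤), e * e = e → ∃ b, D.γ.left.appTop.hom b = e := by
  have := D.compactSpace hqs
  have sq : IsPullback ((yon S).map D.fE) ((yon S).map D.fV) q c.v := hloc.fac ▸ D.sP
  refine norm_scheme (hloc.norm c _ _ _ sq D.N D.n D.νN D.sN _ D.γn ?_)
    (repWith_of_isPullback (isPullback_diagonal sq) hq)
  rw [← Functor.map_comp, D.γν]

theorem Piece.lift_refine {c' : Norm.Chart X} (D' : Piece ν f' c') (a : c'.V ⟶ c.V)
    (ha : (yon S).map a ≫ c.v = c'.v) :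
    ∃ (k : D'.N ⟶ D.N) (w : D'.P ⟶ D.P), (yon S).map k ≫ D.n = D'.n ∧ k ≫ D.νN = D'.νN ≫ a ∧
      w ≫ D.fE = D'.fE ∧ D'.γ ≫ k = w ≫ D.γ := by
  obtain ⟨k, hk⟩ := (yon S).map_surjective (D.sN.lift D'.n ((yon S).map (D'.νN ≫ a))
    (by rw [Functor.map_comp_assoc, ha]; exact D'.sN.w))
  obtain ⟨w, hw⟩ := (yon S).map_surjective (D.sP.lift ((yon S).map D'.fE) ((yon S).map (D'.fV ≫ a))
    (by rw [Functor.map_comp_assoc, ha]; exact D'.sP.w))
  have hkn : (yon S).map k ≫ D.n = D'.n := by rw [hk, D.sN.lift_fst]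
  have hkν : k ≫ D.νN = D'.νN ≫ a := (yon S).map_injective (by
    rw [Functor.map_comp, hk, D.sN.lift_snd])
  have hwE : w ≫ D.fE = D'.fE := (yon S).map_injective (by rw [Functor.map_comp, hw, D.sP.lift_fst])
  have hwV : w ≫ D.fV = D'.fV ≫ a := (yon S).map_injective (by rw [Functor.map_comp, hw, D.sP.lift_snd])
  refine ⟨k, w, hkn, hkν, hwE, (yon S).map_injective (D.sN.hom_ext ?_ ?_)⟩
  · rw [Functor.map_comp, Functor.map_comp, Category.assoc, Category.assoc, hkn, D'.γn, D.γn,
      ← Functor.map_comp_assoc, hwE]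
  · rw [← Functor.map_comp, ← Functor.map_comp, Category.assoc, Category.assoc, hkν, ← Category.assoc,
      D'.γν, D.γν, hwV]

/-- The piece of the normalization cut out by an idempotent with monomorphic image. -/
theorem Piece.mono_openι [QuasiSeparatedSpace S] [CompactSpace EV.left] (hX : IsAlgSpace X)
    (hqs : IsQuasiSeparatedSp X) (hloc : Norm.IsLocNorm q ν f') (hq : IsQuasiSeparatedMor q)
    {b : Γ(D.N.left, ⊤)} (hb : b * b = b)
    (hmono : Mono ((D.P.left.basicOpen (D.γ.left.appTop.hom b)).ι ≫ D.fE.left)) :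
    Mono ((yon S).map (openOverι D.N (D.N.left.basicOpen b)) ≫ D.n) := by
  haveI : IsAffine D.N.left := (hloc.norm c _ _ _ (hloc.fac ▸ D.sP) D.N D.n D.νN D.sN _ D.γn
    (by rw [← Functor.map_comp, D.γν])).isAffine
  refine mono_of_yon fun T u v e => ?_
  obtain ⟨u, rfl⟩ := (yon S).map_surjective u
  obtain ⟨v, rfl⟩ := (yon S).map_surjective v
  refine congrArg _ ?_
  let ι := openOverι D.N (D.N.left.basicOpen b)
  simp only [← Functor.map_comp_assoc] at e
  obtain ⟨R, a₁, a₂, sR⟩ := exists_isPullback_of_representable c.etale.1 c.v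
  obtain ⟨z, hz⟩ := (yon S).map_surjective (sR.lift ((yon S).map ((u ≫ ι) ≫ D.νN))
    ((yon S).map ((v ≫ ι) ≫ D.νN)) (by
      rw [Functor.map_comp (yon S) (u ≫ ι) D.νN, Functor.map_comp (yon S) (v ≫ ι) D.νN, Category.assoc, Category.assoc, ← D.sN.w,
        reassoc_of% e]))
  have hz₁ : z ≫ a₁ = (u ≫ ι) ≫ D.νN := (yon S).map_injective (by rw [Functor.map_comp, hz, sR.lift_fst])
  have hz₂ : z ≫ a₂ = (v ≫ ι) ≫ D.νN := (yon S).map_injective (by rw [Functor.map_comp, hz, sR.lift_snd])
  haveI : Etale a₁.left := repWith_prop c.etale sR.flip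
  haveI : Mono ι := by
    haveI : Mono ((Over.forget S).map ι) := inferInstanceAs (Mono (D.N.left.basicOpen b).ι)
    exact (Over.forget S).mono_of_mono_map this
  refine (cancel_mono ι).1 (hom_ext_cover' (fun B : R.left.affineOpens => openOverι T (z.left ⁻¹ᵁ B.1))
    (fun t => ?_) fun B => ?_)
  · obtain ⟨_, ⟨C, hC, rfl⟩, htC, -⟩ := R.left.isBasis_affineOpens.exists_subset_of_mem_open
      (Set.mem_univ (z.left t)) isOpen_univ
    exact ⟨⟨C, hC⟩, ⟨t, htC⟩, rfl⟩
  haveI : IsAffine (openOver R B.1).left := B.2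
  let j := openOverι T (z.left ⁻¹ᵁ B.1)
  let zB : openOver T (z.left ⁻¹ᵁ B.1) ⟶ openOver R B.1 := Over.homMk (z.left ∣_ B.1) (by
    show z.left ∣_ B.1 ≫ B.1.ι ≫ R.hom = (z.left ⁻¹ᵁ B.1).ι ≫ T.hom
    rw [morphismRestrict_ι_assoc, Over.w z])
  have hzB : zB ≫ openOverι R B.1 = j ≫ z := Over.OverMorphism.ext (morphismRestrict_ι _ _)
  let c' : Norm.Chart X := ⟨openOver R B.1, (yon S).map (openOverι R B.1) ≫ (yon S).map a₁ ≫ c.v,
    repWith_comp (repWith_map (inferInstanceAs (Etale B.1.ι)))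
      (repWith_comp (repWith_map ‹Etale a₁.left›) c.etale)⟩
  let zB' : openOver T (z.left ⁻¹ᵁ B.1) ⟶ c'.V := zB
  obtain ⟨D'⟩ := exists_piece (f' := f') hX hloc.integral c'
  obtain ⟨k₁, w₁, hk₁n, hk₁ν, hw₁, hγ₁⟩ := D.lift_refine D' (openOverι R B.1 ≫ a₁)
    (Functor.map_comp_assoc _ _ _ _)
  obtain ⟨k₂, w₂, hk₂n, hk₂ν, hw₂, hγ₂⟩ := D.lift_refine D' (openOverι R B.1 ≫ a₂) (by
    show (yon S).map (openOverι R B.1 ≫ a₂) ≫ c.v = (yon S).map (openOverι R B.1) ≫ (yon S).map a₁ ≫ c.v
    rw [Functor.map_comp_assoc, sR.w])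
  obtain ⟨l, hl⟩ := (yon S).map_surjective (D'.sN.lift ((yon S).map (j ≫ u ≫ ι) ≫ D.n) ((yon S).map zB') (by
    show _ = (yon S).map zB ≫ (yon S).map (openOverι R B.1) ≫ (yon S).map a₁ ≫ c.v
    rw [Category.assoc, D.sN.w]
    simp only [← Functor.map_comp_assoc]
    rw [← Category.assoc zB, hzB]
    simp only [Category.assoc, hz₁]))
  have hln : (yon S).map l ≫ D'.n = (yon S).map (j ≫ u ≫ ι) ≫ D.n := by rw [hl, D'.sN.lift_fst]
  have hlν : l ≫ D'.νN = zB' := (yon S).map_injective (by rw [Functor.map_comp, hl, D'.sN.lift_snd])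
  have hl₁ : l ≫ k₁ = j ≫ u ≫ ι := (yon S).map_injective (D.sN.hom_ext
    (by rw [Functor.map_comp, Category.assoc, hk₁n, hln])
    (by rw [← Functor.map_comp, ← Functor.map_comp, Category.assoc, hk₁ν, ← Category.assoc, hlν]
        refine congrArg _ ?_
        show zB ≫ openOverι R B.1 ≫ a₁ = (j ≫ u ≫ ι) ≫ D.νN
        rw [← Category.assoc, hzB, Category.assoc, hz₁]
        simp only [Category.assoc]))
  have hl₂ : l ≫ k₂ = j ≫ v ≫ ι := (yon S).map_injective (D.sN.hom_ext
    (by rw [Functor.map_comp, Category.assoc, hk₂n, hln, Functor.map_comp, Category.assoc, e,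
          ← Functor.map_comp_assoc])
    (by rw [← Functor.map_comp, ← Functor.map_comp, Category.assoc, hk₂ν, ← Category.assoc, hlν]
        refine congrArg _ ?_
        show zB ≫ openOverι R B.1 ≫ a₂ = (j ≫ v ≫ ι) ≫ D.νN
        rw [← Category.assoc, hzB, Category.assoc, hz₂]
        simp only [Category.assoc]))
  haveI := D'.compactSpace hqs
  have key := eq_of_idem (g := D.fE.left) (γ := D.γ.left) (γ' := D'.γ.left) (k₁ := k₁.left) (k₂ := k₂.left)
    (w₁ := w₁.left) (w₂ := w₂.left) (congrArg CommaMorphism.left hγ₁) (congrArg CommaMorphism.left hγ₂)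
    (congrArg CommaMorphism.left (hw₁.trans hw₂.symm)) (D'.norm hqs hloc hq).1 hb _ rfl hmono l.left
    (fun t => ?_) (fun t => ?_)
  · show j ≫ u ≫ ι = j ≫ v ≫ ι
    rw [← hl₁, ← hl₂]
    exact Over.OverMorphism.ext key
  · have h : (l ≫ k₁).left t = (j ≫ u ≫ ι).left t := by rw [hl₁]
    show k₁.left (l.left t) ∈ _
    rw [Over.comp_left, Scheme.Hom.comp_apply] at h
    rw [h]
    exact (u.left (j.left t)).2
  · have h : (l ≫ k₂).left t = (j ≫ v ≫ ι).left t := by rw [hl₂]
    show k₂.left (l.left t) ∈ _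
    rw [Over.comp_left, Scheme.Hom.comp_apply] at h
    rw [h]
    exact (v.left (j.left t)).2

/-- Every point of the normalization lies in an open piece. -/
theorem Piece.exists_cover [QuasiSeparatedSpace S] [CompactSpace EV.left] (hqs : IsQuasiSeparatedSp X)
    (hloc : Norm.IsLocNorm q ν f') (hq : IsQuasiSeparatedMor q) {E : CommRingCat.{u}} (hE : IsAbsClosed E)
    (φ : EV.left ⟶ Spec E) [IsIso φ] (y : D.N.left) :
    ∃ b : Γ(D.N.left, ⊤), b * b = b ∧ y ∈ D.N.left.basicOpen b ∧
      Mono ((D.P.left.basicOpen (D.γ.left.appTop.hom b)).ι ≫ D.fE.left) := by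
  haveI := D.compactSpace hqs
  haveI := D.etale
  haveI := D.separated
  choose e he hp hm using fun p : D.P.left => exists_clopen_mono hE (D.fE.left ≫ φ) p
  obtain ⟨s, hs⟩ := (isCompact_univ : IsCompact (Set.univ : Set D.P.left)).elim_finite_subcover
    (fun p => (D.P.left.basicOpen (e p) : Set D.P.left)) (fun p => (D.P.left.basicOpen (e p)).2)
    (fun p _ => Set.mem_iUnion.2 ⟨p, hp p⟩)
  obtain ⟨hinj, hsurj⟩ := D.norm hqs hloc hq
  choose b hb using fun p => hsurj (e p) (he p)
  have hbb : ∀ p, b p * b p = b p := fun p => hinj (by rw [map_mul, hb, he])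
  by_contra hy
  have hprod : ∏ p ∈ s, (1 - b p) = 0 := hinj (by
    rw [map_prod, map_zero]
    simp only [map_sub, map_one, hb]
    have hbot : D.P.left.basicOpen (∏ p ∈ s, (1 - e p)) = ⊥ := by
      refine TopologicalSpace.Opens.ext (Set.eq_empty_iff_forall_notMem.2 fun x hx => ?_)
      obtain ⟨p, hps, hxp⟩ : ∃ p ∈ s, x ∈ D.P.left.basicOpen (e p) := by simpa using hs (Set.mem_univ x)
      obtain ⟨r, hr⟩ := Finset.dvd_prod_of_mem (fun p => 1 - e p) hps
      rw [hr, Scheme.basicOpen_mul] at hx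
      have h0 : x ∈ D.P.left.basicOpen (e p * (1 - e p)) := by rw [Scheme.basicOpen_mul]; exact ⟨hxp, hx.1⟩
      rw [mul_sub, mul_one, he, sub_self, Scheme.basicOpen_zero] at h0
      exact h0
    have hidem : ∀ t : Finset D.P.left, (∏ p ∈ t, (1 - e p)) * ∏ p ∈ t, (1 - e p) = ∏ p ∈ t, (1 - e p) := fun t => by
      rw [← Finset.prod_mul_distrib]
      exact Finset.prod_congr rfl fun p _ => by linear_combination he p
    have h := idem_mul_eq_zero (hidem s) (d := ∏ p ∈ s, (1 - e p)) (by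
      rw [Scheme.Opens.ι_appTop]
      haveI : Subsingleton Γ((D.P.left.basicOpen (∏ p ∈ s, (1 - e p))).toScheme, ⊤) := by
        haveI : IsEmpty (D.P.left.basicOpen (∏ p ∈ s, (1 - e p))).toScheme :=
          ⟨fun x => by have := hbot.le x.2; exact this⟩
        infer_instance
      exact Subsingleton.elim _ _)
    rwa [hidem] at h)
  have hy' : y ∈ D.N.left.basicOpen (∏ p ∈ s, (1 - b p)) := by
    rw [Scheme.mem_basicOpen_top, map_prod]
    refine IsUnit.prod_iff.2 fun p _ => ?_
    rw [map_sub, map_one]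
    rcases IsLocalRing.isUnit_or_isUnit_of_add_one (add_sub_cancel (D.N.left.presheaf.Γgerm y (b p)) 1) with h | h
    · refine absurd ⟨b p, hbb p, (Scheme.mem_basicOpen_top _ _ _).2 h, ?_⟩ hy
      rw [hb]
      haveI : Mono (((D.P.left.basicOpen (e p)).ι ≫ D.fE.left) ≫ φ) := by
        rw [Category.assoc]; exact hm p
      exact mono_of_mono _ φ
    · exact h
  rw [hprod, Scheme.basicOpen_zero] at hy'
  exact hy'

/-- An integral surjective scheme over the space, factoring locally through the cover. -/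
theorem exists_scheme [QuasiSeparatedSpace S] (hX : IsAlgSpace X) (hqc : IsQuasiCompactSp X)
    (hqs : IsQuasiSeparatedSp X) {U : Over S} (b : (yon S).obj U ⟶ X) (hb : RepWith @Etale b)
    (hbs : RepWith @Surjective b) :
    ∃ (Y : Over S) (g : (yon S).obj Y ⟶ X), RepWith @IsIntegralHom g ∧ RepWith @Surjective g ∧
      ∀ y : ↥Y.left, ∃ (W : Y.left.Opens) (c : openOver Y W ⟶ U), y ∈ W ∧
        (yon S).map c ≫ b = (yon S).map (openOverι Y W) ≫ g := by
  obtain ⟨U₀, p₀, hU₀, hp₀, hp₀s⟩ := Qs.exists_affine_atlas hX hqc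
  obtain ⟨V, e, m, hV, he, hes, hm⟩ := exists_affine_refine hb hbs p₀
  let c : Norm.Chart X := ⟨V, (yon S).map m ≫ b, hm ▸ repWith_comp (repWith_map he) hp₀⟩
  have hcs : RepWith @Surjective c.v := by
    show RepWith @Surjective ((yon S).map m ≫ b)
    rw [hm]; exact repWith_comp (repWith_map hes) hp₀s
  obtain ⟨E, s, hE, hs⟩ := exists_absClosed_cover c.V.left
  let EV : Over S := Over.mk (s ≫ c.V.hom)
  let sm : EV ⟶ c.V := Over.homMk s
  haveI : IsAffine EV.left := inferInstanceAs (IsAffine (Spec E))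
  let q : (yon S).obj EV ⟶ X := (yon S).map sm ≫ c.v
  have hqq : IsQuasiSeparatedMor q := by
    haveI : Mono (prod.lift (pullback.fst q q) (pullback.snd q q)) := ⟨fun a b h => pullback.hom_ext
      (by simpa using h =≫ prod.fst) (by simpa using h =≫ prod.snd)⟩
    refine repWith_of_comp_mono (m := prod.lift (pullback.fst q q) (pullback.snd q q)) ?_
    rw [show pullback.diagonal q ≫ prod.lift (pullback.fst q q) (pullback.snd q q) = Limits.diag _ by
      ext <;> simp, repWith_diag_yon_iff]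
    haveI : QuasiSeparated EV.hom := inferInstanceAs (QuasiSeparated (s ≫ c.V.hom))
    infer_instance
  obtain ⟨X', ν, f', hX', hloc⟩ := Norm.exists_isLocNorm hX q
    (qcMor_of_qc_source (IsAlgSpace.yon_obj EV) hX isQuasiCompactSp_of_compactSpace hqs q) hqq
  obtain ⟨D⟩ := exists_piece (f' := f') hX hloc.integral c
  have hne : RepWith @Etale D.n := repWith_of_isPullback D.sN.flip c.etale
  have hns : RepWith @Surjective D.n := repWith_of_isPullback D.sN.flip hcs
  have hpiece : ∀ y : D.N.left, ∃ B : D.N.left.Opens, y ∈ B ∧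
      RepWith @IsOpenImmersion ((yon S).map (openOverι D.N B) ≫ D.n) := fun y => by
    obtain ⟨bb, hbb, hy, hmono⟩ := D.exists_cover hqs hloc hqq hE (𝟙 _) y
    refine ⟨_, hy, ?_⟩
    haveI := D.mono_openι hX hqs hloc hqq hbb hmono
    exact repWith_isOpenImmersion_of_etale_mono (IsAlgSpace.yon_obj _) hX' _ (locP_of_repWith etLocal_etale
      (repWith_comp (repWith_map (inferInstanceAs (Etale (D.N.left.basicOpen bb).ι))) hne))
  choose B hB hBo using hpiece
  obtain ⟨G, θ, hθ⟩ := OpenCharts.exists_scheme_of_open_charts hX' fun x => by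
    obtain ⟨y, rfl⟩ := surjective_ofPt hns x
    exact ⟨openOver D.N (B y), _, ⟨y, hB y⟩, hBo y, ofPt_openMk (B y) D.n ⟨y, hB y⟩⟩
  have hint : RepWith @IsIntegralHom (θ ≫ ν) :=
    repWith_comp (repWith_of_isIso θ) (isIntegralMor_iff.1 hloc.integral)
  refine ⟨G, θ ≫ ν, hint, repWith_surjective_of_map hint.1 fun x => ?_, fun g => ?_⟩
  · obtain ⟨p, rfl⟩ := surjective_map_of_repWith
      (repWith_comp (repWith_map (g := sm) hs) hcs : RepWith @Surjective q) x
    refine ⟨Points.map (f' ≫ inv θ) p, ?_⟩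
    rw [← Points.map_comp, Category.assoc, IsIso.inv_hom_id_assoc, hloc.fac]
  obtain ⟨y, hy⟩ := surjective_ofPt hns (Points.ofPt θ g)
  obtain ⟨α, hα⟩ := (yon S).map_surjective (((yon S).map (openOverι D.N (B y)) ≫ D.n) ≫ inv θ)
  haveI hαo : IsOpenImmersion α.left := (repWith_yon_map_iff _ _).1
    (hα ▸ repWith_comp (hBo y) (repWith_of_isIso (inv θ)))
  have hg : α.left ⟨y, hB y⟩ = g := by
    haveI : IsIso θ := hθ
    refine (Points.schemeEquiv G).injective ?_
    show Points.ofScheme G _ = Points.ofScheme G g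
    apply (Function.LeftInverse.injective (g := Points.map (inv θ)) fun z => by
      rw [← Points.map_comp, IsIso.hom_inv_id, Points.map_id] : Function.Injective (Points.map θ))
    rw [← Points.ofPt_eq_map_ofScheme, ← Points.ofPt_eq_map_ofScheme, ← ofPt_comp, hα, Category.assoc,
      IsIso.inv_hom_id, Category.comp_id, ← hy]
    exact ofPt_openMk (B y) D.n ⟨y, hB y⟩
  let W : G.left.Opens := α.left.opensRange
  let β : openOver G W ⟶ openOver D.N (B y) := Over.homMk α.left.isoOpensRange.inv (by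
    show α.left.isoOpensRange.inv ≫ (openOver D.N (B y)).hom = W.ι ≫ G.hom
    rw [← Over.w α, ← Category.assoc, Scheme.Hom.isoOpensRange_inv_comp])
  refine ⟨W, β ≫ openOverι D.N (B y) ≫ D.νN ≫ m, ⟨_, hg⟩, ?_⟩
  have hβ : β ≫ α = openOverι G W := Over.OverMorphism.ext (Scheme.Hom.isoOpensRange_inv_comp _)
  have hDν : (yon S).map D.νN ≫ (yon S).map m ≫ b = D.n ≫ ν := D.sN.w.symm
  rw [Functor.map_comp_assoc, Functor.map_comp_assoc, Functor.map_comp_assoc, hDν, ← hβ,
    Functor.map_comp_assoc, hα]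
  simp only [Category.assoc, IsIso.inv_hom_id_assoc]

end Groth.L23.IntCover
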