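import Groth.Agent.L23.IntCover.Main
import Groth.Agent.L23.RelSpec.Finite
import Groth.Agent.L23.RelSpec.AffineLim
import Groth.Agent.S10033
import Groth.Agent.S10007
import Mathlib.AlgebraicGeometry.AffineTransitionLimit

/-!
# A scheme finite, surjective and of finite presentation over a space
-/

universe u

open CategoryTheory CategoryTheory.Limits AlgebraicGeometry Opposite AlgSp TopologicalSpace

set_option backward.isDefEq.respectTransparency.types false
set_option backward.isDefEq.respectTransparency false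
set_option linter.style.haveILetI false

namespace Groth.L23.IntCover

variable {S : Scheme.{u}} {X : Sp S}

/-- A scheme system replacing a system of spaces with affine transition maps above a schematic stage. -/
theorem exists_scheme_system {J : Type u} [Category.{u} J] (F : J ⥤ Sp S)
    (h : ∀ j, ∃ (V : Over S), Nonempty ((yon S).obj V ≅ F.obj j)) :
    ∃ (V : J ⥤ Over S), Nonempty (V ⋙ yon S ≅ F) := by
  choose V hV using h
  let φ := fun j => (hV j).some
  let V' : J ⥤ Over S :=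
    { obj := V
      map := fun {i j} a => (yon S).preimage ((φ i).hom ≫ F.map a ≫ (φ j).inv)
      map_id := fun j => (yon S).map_injective (by simp)
      map_comp := fun a b => (yon S).map_injective (by simp) }
  exact ⟨V', ⟨NatIso.ofComponents φ fun a => by simp [V']⟩⟩

/-- A local factorization through a chart descends to a stage. -/
theorem exists_factor_stage {J : Type u} [SmallCategory J] [IsCofiltered J] (V : J ⥤ Over S)
    (haff : ∀ {i j : J} (a : i ⟶ j), IsAffineHom (V.map a).left) (hV : ∀ j, CompactSpace (V.obj j).left)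
    (hVq : ∀ j, QuasiSeparatedSpace (V.obj j).left) (cV : Cone V) (hc : IsLimit cV)
    (τ : ∀ j, (yon S).obj (V.obj j) ⟶ X) (hτ : ∀ {i j : J} (a : i ⟶ j), (yon S).map (V.map a) ≫ τ j = τ i)
    {g : (yon S).obj cV.pt ⟶ X} (hg : ∀ j, (yon S).map (cV.π.app j) ≫ τ j = g)
    {U : Over S} {p : (yon S).obj U ⟶ X} (hp : RepWith @Etale p)
    (W : cV.pt.left.Opens) (hW : IsCompact (W : Set cV.pt.left)) (c : openOver cV.pt W ⟶ U)
    (hfac : (yon S).map c ≫ p = (yon S).map (openOverι cV.pt W) ≫ g) :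
    ∃ (j : J) (W' : (V.obj j).left.Opens) (k : openOver (V.obj j) W' ⟶ U),
      W ≤ (cV.π.app j).left ⁻¹ᵁ W' ∧ (yon S).map k ≫ p = (yon S).map (openOverι (V.obj j) W') ≫ τ j := by
  let D := V ⋙ Over.forget S
  let c₀ := (Over.forget S).mapCone cV
  haveI : IsConnected J := IsCofiltered.isConnected J
  have hc₀ : IsLimit c₀ := isLimitOfPreserves (Over.forget S) hc
  haveI : ∀ {i j : J} (a : i ⟶ j), IsAffineHom (D.map a) := haff
  obtain ⟨i, O, hO, hOW⟩ := exists_preimage_eq D c₀ hc₀ W hW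
  obtain ⟨P, pU, pV, sP⟩ := exists_isPullback_of_representable hp.1 (τ i)
  haveI : Etale pV.left := repWith_prop hp sP
  haveI : ∀ j, CompactSpace ((opensDiagram D i O).obj j) := fun j => by
    haveI : IsAffineHom (D.map j.hom) := haff j.hom
    exact isCompact_iff_compactSpace.mp (QuasiCompact.isCompact_preimage (f := D.map j.hom) _ O.2 hO)
  haveI : ∀ j, QuasiSeparatedSpace ((opensDiagram D i O).obj j) := fun j => by
    haveI : QuasiSeparatedSpace ((CategoryTheory.Over.forget i ⋙ D).obj j) := hVq j.left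
    exact ((opensDiagramι D i O).app j).isOpenEmbedding.quasiSeparatedSpace
  haveI : ∀ {a b : CategoryTheory.Over i} (f : a ⟶ b), IsAffineHom ((opensDiagram D i O).map f) := fun {a b} f => by
    haveI : IsAffineHom (D.map f.left) := haff f.left
    refine MorphismProperty.of_isPullback (IsOpenImmersion.isPullback ((opensDiagram D i O).map f)
      ((D.map a.hom ⁻¹ᵁ O).ι) ((D.map b.hom ⁻¹ᵁ O).ι) (D.map f.left) (by simp) ?_).flip ‹_›
    simp [← Scheme.Hom.comp_preimage, ← Functor.map_comp]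
  let t : opensDiagram D i O ⟶ (Functor.const _).obj (V.obj i).left :=
    { app := fun j => (D.map j.hom ⁻¹ᵁ O).ι ≫ D.map j.hom
      naturality := fun a b f => by
        simp [← Functor.map_comp] }
  let W₀ : Over S := openOver cV.pt W
  have hW' : (W : cV.pt.left.Opens) = c₀.π.app i ⁻¹ᵁ O := hOW.symm
  let a₁ : openOver cV.pt (c₀.π.app i ⁻¹ᵁ O) ⟶ openOver cV.pt W :=
    Over.homMk (cV.pt.left.homOfLE hW'.ge) (by simp)
  obtain ⟨a, ha⟩ := (yon S).map_surjective (sP.lift ((yon S).map (a₁ ≫ c))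
    ((yon S).map (openOverι cV.pt (c₀.π.app i ⁻¹ᵁ O) ≫ cV.π.app i)) (by
      rw [Functor.map_comp_assoc, hfac, Functor.map_comp_assoc, hg, ← Functor.map_comp_assoc]
      refine congrArg (fun m => (yon S).map m ≫ g) ?_
      exact Over.OverMorphism.ext (Scheme.homOfLE_ι cV.pt.left hW'.ge)))
  have haV : a ≫ pV = openOverι cV.pt (c₀.π.app i ⁻¹ᵁ O) ≫ cV.π.app i :=
    (yon S).map_injective (by rw [Functor.map_comp, ha, sP.lift_snd])
  obtain ⟨j, k, hk₁, hk₂⟩ := Scheme.exists_π_app_comp_eq_of_locallyOfFinitePresentation (opensDiagram D i O) t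
    pV.left (opensCone D c₀ i O) (isLimitOpensCone D c₀ hc₀ i O) a.left (by
      ext j
      have e := congrArg CommaMorphism.left haV
      show (c₀.π.app j.left).resLE _ _ _ ≫ (D.map j.hom ⁻¹ᵁ O).ι ≫ D.map j.hom = a.left ≫ pV.left
      rw [Scheme.Hom.resLE_comp_ι_assoc, c₀.w j.hom]
      exact e.symm)
  let O' : (V.obj j.left).left.Opens := D.map j.hom ⁻¹ᵁ O
  have hkw : k ≫ pV.left = O'.ι ≫ (V.map j.hom).left := hk₂
  let k' : openOver (V.obj j.left) O' ⟶ P := Over.homMk k (by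
    show k ≫ P.hom = O'.ι ≫ (V.obj j.left).hom
    rw [← Over.w pV, reassoc_of% hkw, Over.w (V.map j.hom)])
  have hk' : k' ≫ pV = openOverι (V.obj j.left) O' ≫ V.map j.hom := Over.OverMorphism.ext hkw
  refine ⟨j.left, O', k' ≫ pU, ?_, ?_⟩
  · rw [hW']
    show _ ≤ c₀.π.app j.left ⁻¹ᵁ (D.map j.hom ⁻¹ᵁ O)
    rw [← Scheme.Hom.comp_preimage, c₀.w j.hom]
  · rw [Functor.map_comp_assoc, sP.w, ← Functor.map_comp_assoc, hk', Functor.map_comp_assoc, hτ]

set_option maxHeartbeats 800000 in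
/-- A stage of a finite approximation of a scheme over a space is a scheme locally factoring through a chart. -/
theorem exists_scheme_stage [QuasiSeparatedSpace S] (X : Space S) (hqc : IsQuasiCompactSp X.obj)
    (hqs : IsQuasiSeparatedSp X.obj) {U : Over S} {p : (yon S).obj U ⟶ X.obj} (hpe : RepWith @Etale p)
    {Y : Over S} {g : (yon S).obj Y ⟶ X.obj} (hg : RepWith @IsIntegralHom g) (hgs : RepWith @Surjective g)
    (hgU : ∀ y : ↥Y.left, ∃ (W : Y.left.Opens) (c : openOver Y W ⟶ U), y ∈ W ∧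
      (yon S).map c ≫ p = (yon S).map (openOverι Y W) ≫ g)
    {I : Type u} [Preorder I] [IsDirected I (fun a b => a ≤ b)] [Nonempty I] (D : Iᵒᵖ ⥤ Sp S)
    (t : D ⟶ (Functor.const Iᵒᵖ).obj X.obj) (c : Cone D) (hc : IsLimit c) (e : c.pt ≅ (yon S).obj Y)
    (hD : ∀ i, IsAlgSpace (D.obj i)) (haff : ∀ (i j : Iᵒᵖ) (φ : i ⟶ j), IsAffineMor (D.map φ))
    (ht : ∀ i, IsFiniteMor (t.app i) ∧ IsFinitePresentationMor (t.app i))
    (htg : ∀ i, e.inv ≫ c.π.app i ≫ t.app i = g) :
    ∃ (i : Iᵒᵖ) (Y' : Over S) (φ : (yon S).obj Y' ≅ D.obj i),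
      IsFiniteMor (φ.hom ≫ t.app i) ∧ IsSurjectiveMor (φ.hom ≫ t.app i) ∧
      IsFinitePresentationMor (φ.hom ≫ t.app i) ∧
      ∀ y : ↥Y'.left, ∃ (V : Y'.left.Opens), y ∈ V ∧
        ∃ k : openOver Y' V ⟶ U, (yon S).map k ≫ p = (yon S).map (openOverι Y' V) ≫ φ.hom ≫ t.app i := by
  have htr : ∀ i, RepWith @IsFinite (t.app i) := fun i => isFiniteMor_iff.1 (ht i).1
  have hDqc : ∀ i, IsQuasiCompactSp (D.obj i) := fun i =>
    (ht i).2.2.1 X.property hqc (𝟙 _) (𝟙 _) (t.app i) (IsPullback.of_horiz_isIso ⟨by simp⟩)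
  have hDqs : ∀ i, IsQuasiSeparatedSp (D.obj i) := fun i =>
    RelSpec.qsSp_of_affine hqs (repWith_mono (fun φ (_ : IsFinite φ) => inferInstanceAs (IsAffineHom φ)) (htr i))
  obtain ⟨i₀, hi₀⟩ := Groth.Agent.S10007.result S D hD haff hDqc hDqs c hc
    ((isRepresentable_iff_exists_iso).2 ⟨Y, ⟨e.symm⟩⟩)
  obtain ⟨T, ⟨ε⟩⟩ := isRepresentable_iff_exists_iso.1 hi₀
  let F := CategoryTheory.Over.forget i₀ ⋙ D
  have hrep : ∀ j : CategoryTheory.Over i₀, ∃ V : Over S, Nonempty ((yon S).obj V ≅ F.obj j) := fun j => by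
    have h := (isAffineMor_iff.1 (haff _ _ j.hom)).1
    have sq := h.isPullback ε.hom
    haveI : IsIso (h.fst ε.hom) := sq.isIso_fst_of_isIso
    exact ⟨_, ⟨asIso (h.fst ε.hom)⟩⟩
  obtain ⟨V, ⟨φ⟩⟩ := exists_scheme_system F hrep
  haveI : IsConnected Iᵒᵖ := IsCofiltered.isConnected Iᵒᵖ
  have hcF : IsLimit (c.whisker (CategoryTheory.Over.forget i₀)) :=
    (Functor.Initial.isLimitWhiskerEquiv (CategoryTheory.Over.forget i₀) c).symm hc
  let cV : Cone V :=
    { pt := Y
      π :=
        { app := fun j => (yon S).preimage (e.inv ≫ c.π.app j.left ≫ φ.inv.app j)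
          naturality := fun a b f => (yon S).map_injective (by
            have := φ.inv.naturality f
            dsimp at this ⊢
            simp only [Functor.map_comp, Functor.map_preimage, Category.assoc, Category.id_comp]
            rw [← this]
            refine congrArg (e.inv ≫ ·) ?_
            exact ((Category.assoc _ _ _).symm.trans (congrArg (· ≫ φ.inv.app b) (c.w f.left))).symm) } }
  have hcV : IsLimit cV := by
    refine isLimitOfReflects (yon S) ?_
    refine (IsLimit.postcomposeHomEquiv φ _).1 (hcF.ofIsoLimit (Cone.ext e ?_))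
    intro j
    show c.π.app j.left = e.hom ≫ (yon S).map ((yon S).preimage (e.inv ≫ c.π.app j.left ≫ φ.inv.app j)) ≫ φ.hom.app j
    simp
    exact (Category.comp_id _).symm
  have hτ : ∀ {i j : CategoryTheory.Over i₀} (a : i ⟶ j),
      (yon S).map (V.map a) ≫ φ.hom.app j ≫ t.app j.left = φ.hom.app i ≫ t.app i.left := fun {i j} a => by
    have := φ.hom.naturality a
    dsimp at this
    rw [reassoc_of% this]
    refine congrArg (φ.hom.app i ≫ ·) ?_
    exact (t.naturality a.left).trans (Category.comp_id _)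
  have hg' : ∀ j, (yon S).map (cV.π.app j) ≫ φ.hom.app j ≫ t.app j.left = g := fun j => by
    have := htg j.left
    simp only [cV, Functor.map_preimage, Category.assoc, Iso.inv_hom_id_app_assoc]
    exact this
  have hVc : ∀ j, CompactSpace (V.obj j).left := fun j =>
    compactSpace_of_isQuasiCompactSp (by
      obtain ⟨A, a, he, hs, hA⟩ := hDqc j.left
      exact ⟨A, a ≫ (φ.app j).inv, repWith_comp he (repWith_of_isIso _), repWith_comp hs (repWith_of_isIso _), hA⟩)
  have hVq : ∀ j, QuasiSeparatedSpace (V.obj j).left := fun j => by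
    have : IsQuasiSeparatedSp ((yon S).obj (V.obj j)) :=
      haveI : IsIso (φ.app j).hom := inferInstance
      Qs.isQuasiSeparatedSp_of_mono (X := D.obj j.left) (hDqs j.left) (φ.app j).hom
    haveI : QuasiCompact (pullback.diagonal (V.obj j).hom) := (repWith_diag_yon_iff _ _).1 this
    haveI : QuasiSeparated (V.obj j).hom := (quasiSeparated_iff _).2 inferInstance
    exact quasiSeparatedSpace_of_quasiSeparated (V.obj j).hom
  have hVaff : ∀ {i j : CategoryTheory.Over i₀} (a : i ⟶ j), IsAffineHom (V.map a).left := fun {i j} a =>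
    (repWith_yon_map_iff _ _).1 (by
      have h := isAffineMor_iff.1 (haff _ _ a.left)
      rw [show (yon S).map (V.map a) = φ.hom.app i ≫ D.map a.left ≫ φ.inv.app j by
        have := φ.hom.naturality a
        dsimp [F] at this ⊢
        rw [← reassoc_of% this, Iso.hom_inv_id_app]
        exact (Category.comp_id _).symm]
      exact repWith_comp (repWith_of_isIso _) (repWith_comp h (repWith_of_isIso _)))
  choose W₀ k₀ hy₀ hk₀ using hgU
  have hW : ∀ y, ∃ B : Y.left.Opens, IsCompact (B : Set Y.left) ∧ y ∈ B ∧ B ≤ W₀ y := fun y => by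
    obtain ⟨_, ⟨B, hB, rfl⟩, hyB, hBW⟩ :=
      Y.left.isBasis_affineOpens.exists_subset_of_mem_open (hy₀ y) (W₀ y).isOpen
    exact ⟨B, hB.isCompact, hyB, hBW⟩
  choose B hBc hyB hBW using hW
  have hst : ∀ y, ∃ (j : CategoryTheory.Over i₀) (W' : (V.obj j).left.Opens) (k : openOver (V.obj j) W' ⟶ U),
      B y ≤ (cV.π.app j).left ⁻¹ᵁ W' ∧
      (yon S).map k ≫ p = (yon S).map (openOverι (V.obj j) W') ≫ φ.hom.app j ≫ t.app j.left := fun y =>
    exists_factor_stage V hVaff hVc hVq cV hcV _ hτ hg' hpe (B y) (hBc y)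
      ((Over.homMk (Y.left.homOfLE (hBW y)) (by simp) : openOver Y (B y) ⟶ openOver Y (W₀ y)) ≫ k₀ y) (by
        rw [Functor.map_comp_assoc, hk₀, ← Functor.map_comp_assoc]
        refine congrArg (fun m => (yon S).map m ≫ g) ?_
        exact Over.OverMorphism.ext (Scheme.homOfLE_ι Y.left (hBW y)))
  choose j₀ W' k' hle hk' using hst
  haveI : CompactSpace Y.left := compactSpace_of_isQuasiCompactSp
    ((isQuasiCompactMor_of_repWith (repWith_mono (fun φ (_ : IsIntegralHom φ) =>
      inferInstanceAs (QuasiCompact φ)) hg)) X.property hqc (𝟙 _) (𝟙 _) g (IsPullback.of_horiz_isIso ⟨by simp⟩))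
  obtain ⟨s, hs⟩ := (isCompact_univ : IsCompact (Set.univ : Set Y.left)).elim_finite_subcover
    (fun y => (B y : Set Y.left)) (fun y => (B y).2) (fun y _ => Set.mem_iUnion.2 ⟨y, hyB y⟩)
  classical
  obtain ⟨j₁, hj₁⟩ := IsCofiltered.inf_objs_exists (s.image j₀)
  have hm : ∀ y ∈ s, Nonempty (j₁ ⟶ j₀ y) := fun y hy => ⟨(hj₁ (Finset.mem_image_of_mem _ hy)).some⟩
  let O : (V.obj j₁).left.Opens := ⨆ y : s, (V.map (hm y.1 y.2).some).left ⁻¹ᵁ W' y.1
  haveI : IsConnected (CategoryTheory.Over i₀) := IsCofiltered.isConnected _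
  haveI : ∀ {i j : CategoryTheory.Over i₀} (a : i ⟶ j), IsAffineHom ((V ⋙ Over.forget S).map a) := hVaff
  haveI : ∀ j, CompactSpace ((V ⋙ Over.forget S).obj j) := hVc
  obtain ⟨j, f, hjO⟩ := exists_map_eq_top (V ⋙ Over.forget S) _ (isLimitOfPreserves (Over.forget S) hcV) O (by
    refine top_le_iff.1 fun y _ => ?_
    obtain ⟨z, hzs, hyz⟩ : ∃ z ∈ s, y ∈ B z := by simpa using hs (Set.mem_univ y)
    show (cV.π.app j₁).left y ∈ O
    refine Opens.mem_iSup.2 ⟨⟨z, hzs⟩, ?_⟩
    have := hle z hyz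
    rw [← cV.w (hm z hzs).some] at this
    exact this)
  refine ⟨j.left, V.obj j, φ.app j, ?_, ?_, ?_, fun v => ?_⟩
  · exact isFiniteMor_iff.2 (repWith_comp (repWith_of_isIso _) (htr j.left))
  · intro x
    obtain ⟨y, hy⟩ := surjective_map_of_repWith hgs x
    refine ⟨Points.map ((yon S).map (cV.π.app j)) y, ?_⟩
    rw [← Points.map_comp]
    exact (congrArg (fun m => Points.map m y) (hg' j)).trans hy
  · refine ⟨?_, ?_, ?_⟩
    · exact locP_comp etLocal_lfp (IsAlgSpace.yon_obj _) (hD j.left) X.property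
        (locP_mono (fun φ (_ : Etale φ) => inferInstanceAs (LocallyOfFinitePresentation φ))
          (locP_of_repWith etLocal_etale (repWith_of_isIso _))) (ht j.left).2.1
    · exact qcMor_comp (hD j.left) X.property
        (isQuasiCompactMor_of_repWith (repWith_of_isIso _)) (ht j.left).2.2.1
    · exact qsMor_comp (RelSpec.isQuasiSeparatedMor_of_isFinite (repWith_of_isIso _)) (ht j.left).2.2.2
  have hv : (V.map f).left v ∈ O := hjO.ge (Set.mem_univ v)
  obtain ⟨⟨z, hzs⟩, hz⟩ := Opens.mem_iSup.1 hv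
  let a := f ≫ (hm z hzs).some
  refine ⟨(V.map a).left ⁻¹ᵁ W' z, ?_, (Over.homMk ((V.map a).left ∣_ W' z) (by
    show _ ≫ (W' z).ι ≫ (V.obj (j₀ z)).hom = ((V.map a).left ⁻¹ᵁ W' z).ι ≫ (V.obj j).hom
    rw [morphismRestrict_ι_assoc, Over.w (V.map a)]) :
    openOver (V.obj j) ((V.map a).left ⁻¹ᵁ W' z) ⟶ openOver (V.obj (j₀ z)) (W' z)) ≫ k' z, ?_⟩
  · show (V.map a).left v ∈ W' z
    rw [V.map_comp, Over.comp_left, Scheme.Hom.comp_apply]
    exact hz
  · show _ = (yon S).map _ ≫ φ.hom.app j ≫ t.app j.left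
    rw [Functor.map_comp_assoc, hk' z, ← hτ a, ← Functor.map_comp_assoc, ← Functor.map_comp_assoc]
    congr 2
    exact Over.OverMorphism.ext (morphismRestrict_ι _ _)

/-- A finite surjective finitely presented cover by a scheme, locally factoring through a chart. -/
theorem exists_scheme_finite [QuasiSeparatedSpace S] (X : Space S) (hqc : IsQuasiCompactSp X.obj)
    (hqs : IsQuasiSeparatedSp X.obj) {U : Over S} (p : (yon S).obj U ⟶ X.obj) (hpe : RepWith @Etale p)
    (hps : RepWith @Surjective p) :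
    ∃ (Y : Over S) (g : (yon S).obj Y ⟶ X.obj),
      IsFiniteMor g ∧ IsSurjectiveMor g ∧ IsFinitePresentationMor g ∧
      ∀ y : ↥Y.left, ∃ (V : Y.left.Opens), y ∈ V ∧
        ∃ k : openOver Y V ⟶ U, (yon S).map k ≫ p = (yon S).map (openOverι Y V) ≫ g := by
  obtain ⟨Y, g, hg, hgs, hgU⟩ := exists_scheme X.property hqc hqs p hpe hps
  obtain ⟨I, _, _, _, D, t, c, hc, e, hD, haff, ht, htg⟩ :=
    Groth.Agent.S10033.result S (X := ⟨(yon S).obj Y, IsAlgSpace.yon_obj Y⟩) (Y := X)
      (ObjectProperty.homMk g) (isIntegralMor_iff.2 hg) hqc hqs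
  obtain ⟨i, Y', φ, h₁, h₂, h₃, h₄⟩ := exists_scheme_stage X hqc hqs hpe hg hgs hgU D t c hc e hD haff ht htg
  exact ⟨Y', φ.hom ≫ t.app i, h₁, h₂, h₃, h₄⟩

end Groth.L23.IntCover
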