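import Mathlib.AlgebraicGeometry.Morphisms.Etale
import Mathlib.AlgebraicGeometry.Morphisms.ClosedImmersion
import Mathlib.AlgebraicGeometry.Morphisms.Separated
import Mathlib.AlgebraicGeometry.Morphisms.QuasiSeparated
import Mathlib.FieldTheory.IsAlgClosed.Basic
import Mathlib.RingTheory.Unramified.LocalRing
import Mathlib.RingTheory.Etale.Locus
import Mathlib.RingTheory.LocalRing.ResidueField.Ideal

/-!
# Etale schemes over products of algebraically closed fields
-/

universe u

open CategoryTheory CategoryTheory.Limits AlgebraicGeometry Opposite TopologicalSpace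

set_option backward.isDefEq.respectTransparency.types false
set_option backward.isDefEq.respectTransparency false
set_option linter.style.haveILetI false

namespace Groth.L23.IntCover

/-- Von Neumann regular rings in which every monic polynomial has a root. -/
structure IsAbsClosed (E : Type u) [CommRing E] : Prop where
  regular : ∀ r : E, ∃ x, r * r * x = r
  root : ∀ F : Polynomial E, F.Monic → 0 < F.natDegree → ∃ r, F.eval r = 0

theorem isAbsClosed_pi {ι : Type u} (k : ι → Type u) [∀ i, Field (k i)] [∀ i, IsAlgClosed (k i)] :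
    IsAbsClosed (∀ i, k i) where
  regular r := ⟨fun i => (r i)⁻¹, funext fun i => by
    rcases eq_or_ne (r i) 0 with h | h
    · simp [h]
    · simp [h]⟩
  root F hF hd := by
    have : ∀ i, ∃ z, (F.map (Pi.evalRingHom k i)).eval z = 0 := fun i => by
      refine IsAlgClosed.exists_root _ ?_
      rw [Polynomial.degree_eq_natDegree (hF.map _).ne_zero, hF.natDegree_map]
      exact_mod_cast hd.ne'
    choose z hz using this
    refine ⟨z, funext fun i => ?_⟩
    have := hz i
    rw [Polynomial.eval_map] at this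
    rw [Pi.zero_apply, ← Pi.evalRingHom_apply k i (F.eval z), ← Polynomial.eval₂_hom]
    exact this

variable {E : Type u} [CommRing E]

theorem IsAbsClosed.exists_not_mem_mul_eq_zero (hE : IsAbsClosed E) {q : Ideal E} (hq : q.IsPrime)
    {r : E} (hr : r ∈ q) : ∃ s ∉ q, s * r = 0 := by
  obtain ⟨x, hx⟩ := hE.regular r
  refine ⟨1 - r * x, fun h => hq.ne_top (q.eq_top_iff_one.2 ?_), by rw [sub_mul, one_mul]; linear_combination -hx⟩
  simpa using q.add_mem h (q.mul_mem_right x hr)

theorem IsAbsClosed.isMaximal (hE : IsAbsClosed E) {q : Ideal E} (hq : q.IsPrime) : q.IsMaximal := by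
  refine Ideal.isMaximal_iff.2 ⟨fun h => hq.ne_top (q.eq_top_iff_one.2 h), fun J r hJ hr hrJ => ?_⟩
  obtain ⟨x, hx⟩ := hE.regular r
  have : (1 - r * x) * r = 0 := by rw [sub_mul, one_mul]; linear_combination -hx
  rcases hq.mem_or_mem (this ▸ q.zero_mem) with h | h
  · have := J.add_mem (hJ h) (J.mul_mem_right x hrJ)
    simpa using this
  · exact absurd h hr

theorem IsAbsClosed.isAlgClosed_residueField (hE : IsAbsClosed E) (q : Ideal E) [hq : q.IsPrime] :
    IsAlgClosed q.ResidueField := by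
  have := hE.isMaximal hq
  refine IsAlgClosed.of_exists_root _ fun F hF hirr => ?_
  have hl : F ∈ Polynomial.lifts (algebraMap E q.ResidueField) := by
    rw [Polynomial.lifts_iff_coeff_lifts]
    exact fun n => q.algebraMap_residueField_surjective _
  obtain ⟨G, hG, hdeg, hGm⟩ := Polynomial.lifts_and_natDegree_eq_and_monic hl hF
  obtain ⟨r, hr⟩ := hE.root G hGm (hdeg ▸ hirr.natDegree_pos)
  exact ⟨algebraMap E _ r, by rw [← hG, Polynomial.eval_map, Polynomial.eval₂_hom, hr, map_zero]⟩

variable {A : Type u} [CommRing A] [Algebra E A]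

theorem exists_not_mem_mul_sub_eq_zero [Algebra.Etale E A] (hE : IsAbsClosed E) (p : Ideal A) [p.IsPrime]
    (a : A) : ∃ r : E, ∃ s ∉ p, s * (a - algebraMap E A r) = 0 := by
  let q := p.under E
  have hq : q.IsPrime := inferInstance
  have := hE.isMaximal hq
  have := hE.isAlgClosed_residueField q
  have : Algebra.IsUnramifiedAt E p := inferInstanceAs (Algebra.FormallyUnramified E _)
  letI := Localization.AtPrime.algebraOfLiesOver q p
  have : Algebra.IsIntegral q.ResidueField p.ResidueField := Algebra.IsIntegral.of_finite _ _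
  obtain ⟨z, hz⟩ := (IsAlgClosed.algebraMap_bijective_of_isIntegral (k := q.ResidueField) (K := p.ResidueField)).2
    (algebraMap A p.ResidueField a)
  obtain ⟨r, rfl⟩ := q.algebraMap_residueField_surjective z
  have hmem : a - algebraMap E A r ∈ p := by
    rw [← Ideal.algebraMap_residueField_eq_zero (I := p), map_sub, ← IsScalarTower.algebraMap_apply,
      ← hz, ← IsScalarTower.algebraMap_apply, sub_self]
  have hmax : algebraMap A (Localization.AtPrime p) (a - algebraMap E A r) ∈
      q.map (algebraMap E (Localization.AtPrime p)) := by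
    rw [((Algebra.isUnramifiedAt_iff_map_eq E q p).1 inferInstance).2]
    exact (IsLocalization.AtPrime.to_map_mem_maximal_iff _ p _).2 hmem
  have hbot : q.map (algebraMap E (Localization.AtPrime p)) = ⊥ := by
    refine le_bot_iff.1 (Ideal.map_le_iff_le_comap.2 fun x hx => ?_)
    obtain ⟨s, hs, hsx⟩ := hE.exists_not_mem_mul_eq_zero hq hx
    have hu : IsUnit (algebraMap E (Localization.AtPrime p) s) := by
      rw [IsScalarTower.algebraMap_apply E A]
      exact IsLocalization.map_units _ (⟨algebraMap E A s, hs⟩ : p.primeCompl)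
    show algebraMap E (Localization.AtPrime p) x = 0
    rw [← hu.mul_right_eq_zero, ← map_mul, hsx, map_zero]
  rw [hbot, Ideal.mem_bot, IsLocalization.map_eq_zero_iff p.primeCompl] at hmax
  obtain ⟨⟨s, hs⟩, hsa⟩ := hmax
  exact ⟨r, s, hs, hsa⟩

theorem exists_not_mem_surjective [Algebra.Etale E A] (hE : IsAbsClosed E) (p : Ideal A) [p.IsPrime] :
    ∃ F ∉ p, ∀ (B : Type u) [CommRing B] [Algebra A B] [IsLocalization.Away F B] [Algebra E B]
      [IsScalarTower E A B], Function.Surjective (algebraMap E B) := by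
  obtain ⟨T, hT⟩ := (inferInstance : Algebra.FiniteType E A).out
  choose r s hs hsa using exists_not_mem_mul_sub_eq_zero hE p
  refine ⟨∏ a ∈ T, s a, fun h => ?_, fun B _ _ _ _ _ => ?_⟩
  · obtain ⟨a, -, ha⟩ := (Ideal.IsPrime.prod_mem_iff (hp := ‹p.IsPrime›)).1 h
    exact hs a ha
  have hu : ∀ a ∈ T, IsUnit (algebraMap A B (s a)) := fun a ha =>
    isUnit_of_dvd_unit (map_dvd _ (Finset.dvd_prod_of_mem s ha))
      (IsLocalization.Away.algebraMap_isUnit (∏ a ∈ T, s a))
  have hR : ∀ a : A, algebraMap A B a ∈ ((IsScalarTower.toAlgHom E A B).comp (Algebra.ofId E A)).range := by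
    intro a
    have hle : Algebra.adjoin E (T : Set A) ≤
        (((IsScalarTower.toAlgHom E A B).comp (Algebra.ofId E A)).range).comap (IsScalarTower.toAlgHom E A B) :=
      Algebra.adjoin_le fun t ht => ⟨r t, by
        show algebraMap A B (algebraMap E A (r t)) = algebraMap A B t
        have h : algebraMap A B (t - algebraMap E A (r t)) = 0 := by
          rw [← (hu t ht).mul_right_eq_zero, ← map_mul, hsa, map_zero]
        rw [map_sub, sub_eq_zero] at h
        exact h.symm⟩
    rw [hT] at hle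
    exact hle Algebra.mem_top
  intro b
  obtain ⟨n, a, ha⟩ := IsLocalization.Away.surj (∏ a ∈ T, s a) b
  obtain ⟨r₀, hr₀⟩ := hR a
  obtain ⟨f₀, hf₀⟩ := hR (∏ a ∈ T, s a)
  change algebraMap A B (algebraMap E A r₀) = _ at hr₀
  change algebraMap A B (algebraMap E A f₀) = _ at hf₀
  rw [← IsScalarTower.algebraMap_apply] at hr₀ hf₀
  obtain ⟨x, hx⟩ := hE.regular f₀
  have hfu : IsUnit (algebraMap E B f₀) := hf₀ ▸ IsLocalization.Away.algebraMap_isUnit _
  have h1 : algebraMap E B f₀ * algebraMap E B x = 1 := hfu.mul_left_cancel (by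
    rw [← mul_assoc, ← map_mul, ← map_mul, hx, mul_one])
  refine ⟨r₀ * x ^ n, ?_⟩
  rw [map_mul, map_pow, hr₀, ← ha, ← hf₀, mul_assoc, ← mul_pow, h1, one_pow, mul_one]

variable {P : Scheme.{u}}

/-- The idempotent of a clopen set. -/
theorem exists_idempotent (K : P.Opens) (hK : IsClosed (K : Set P)) :
    ∃ e : Γ(P, ⊤), e * e = e ∧ P.basicOpen e = K := by
  let K' : P.Opens := ⟨(K : Set P)ᶜ, hK.isOpen_compl⟩
  let U : ULift.{u} Bool → P.Opens := fun b => if b.down then K else K'
  have hcover : (⊤ : P.Opens) ≤ iSup U := fun x _ => by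
    by_cases hx : x ∈ K
    · exact Opens.mem_iSup.2 ⟨⟨true⟩, hx⟩
    · exact Opens.mem_iSup.2 ⟨⟨false⟩, hx⟩
  let sf : ∀ b, Γ(P, U b) := fun b => if b.down then 1 else 0
  have hsub : ∀ V : P.Opens, V ≤ ⊥ → Subsingleton Γ(P, V) := fun V hV => by
    obtain rfl := le_bot_iff.1 hV
    infer_instance
  have hcompat : TopCat.Presheaf.IsCompatible P.sheaf.1 U sf := by
    rintro ⟨⟨⟩⟩ ⟨⟨⟩⟩
    · rfl
    · exact (hsub (U ⟨false⟩ ⊓ U ⟨true⟩) fun x hx => (hx.1 hx.2).elim).elim _ _
    · exact (hsub (U ⟨true⟩ ⊓ U ⟨false⟩) fun x hx => (hx.2 hx.1).elim).elim _ _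
    · rfl
  obtain ⟨e, he, hu⟩ := P.sheaf.existsUnique_gluing' U ⊤ (fun b => homOfLE le_top) hcover sf hcompat
  refine ⟨e, hu _ fun b => ?_, ?_⟩
  · have := he b
    change (P.presheaf.map (homOfLE le_top).op).hom (e * e) = sf b
    change (P.presheaf.map (homOfLE le_top).op).hom e = sf b at this
    rw [map_mul, this]
    rcases b with ⟨⟨⟩⟩ <;> simp [sf]
  · refine Opens.ext (Set.ext fun x => ?_)
    have key : ∀ b, x ∈ U b → (x ∈ P.basicOpen e ↔ x ∈ P.basicOpen (sf b)) := fun b hx => by
      rw [← he b]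
      change _ ↔ x ∈ P.basicOpen ((P.presheaf.map (homOfLE le_top).op).hom e)
      rw [Scheme.basicOpen_res]
      exact ⟨fun h => ⟨hx, h⟩, fun h => h.2⟩
    by_cases hx : x ∈ K
    · refine iff_of_true ((key ⟨true⟩ hx).2 ?_) hx
      rw [show sf ⟨true⟩ = 1 from rfl, Scheme.basicOpen_of_isUnit _ isUnit_one]
      exact hx
    · refine iff_of_false (fun h => ?_) hx
      have := (key ⟨false⟩ hx).1 h
      rw [show sf ⟨false⟩ = 0 from rfl, Scheme.basicOpen_zero] at this
      exact this

/-- Each point of an etale separated scheme over a product of algebraically closed fields has a clopen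
neighbourhood mapping monomorphically to it. -/
theorem exists_clopen_mono {E : CommRingCat.{u}} (hE : IsAbsClosed E) (g : P ⟶ Spec E) [Etale g] [IsSeparated g]
    (p : P) : ∃ e : Γ(P, ⊤), e * e = e ∧ p ∈ P.basicOpen e ∧ Mono ((P.basicOpen e).ι ≫ g) := by
  obtain ⟨_, ⟨V, hV, rfl⟩, hpV, -⟩ := P.isBasis_affineOpens.exists_subset_of_mem_open (Set.mem_univ p) isOpen_univ
  change P.Opens at V
  have htop := isAffineOpen_top (Spec E)
  let φ : E ⟶ Γ(P, V) := (Scheme.ΓSpecIso E).inv ≫ g.appLE ⊤ V le_top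
  have hφ : φ.hom.Etale :=
    RingHom.Etale.respectsIso.2 (g.appLE ⊤ V le_top).hom (Scheme.ΓSpecIso E).symm.commRingCatIsoToRingEquiv
      (HasRingHomProperty.appLE (P := @Etale) g inferInstance ⟨⊤, htop⟩ ⟨V, hV⟩ le_top)
  algebraize [φ.hom]
  obtain ⟨F, hF, hsurj⟩ := exists_not_mem_surjective hE (hV.primeIdealOf ⟨p, hpV⟩).asIdeal
  let D : P.Opens := P.basicOpen F
  have hD : IsAffineOpen D := hV.basicOpen F
  have hDp : p ∈ D := by
    have := hV.fromSpec_primeIdealOf ⟨p, hpV⟩
    have h2 : hV.primeIdealOf ⟨p, hpV⟩ ∈ hV.fromSpec ⁻¹ᵁ P.basicOpen F := by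
      rw [hV.fromSpec_preimage_basicOpen]
      exact hF
    change hV.fromSpec (hV.primeIdealOf ⟨p, hpV⟩) ∈ P.basicOpen F at h2
    rwa [this] at h2
  letI : Algebra Γ(P, V) Γ(P, D) := (P.presheaf.map (homOfLE (P.basicOpen_le F)).op).hom.toAlgebra
  haveI : IsLocalization.Away F Γ(P, D) := hV.isLocalization_basicOpen F
  letI : Algebra E Γ(P, D) := ((algebraMap Γ(P, V) Γ(P, D)).comp φ.hom).toAlgebra
  haveI : IsScalarTower E Γ(P, V) Γ(P, D) := IsScalarTower.of_algebraMap_eq fun _ => rfl
  have hsD : Function.Surjective (g.appLE ⊤ D le_top).hom := fun b => by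
    obtain ⟨r, hr⟩ := hsurj Γ(P, D) b
    refine ⟨(Scheme.ΓSpecIso E).inv.hom r, ?_⟩
    rw [← hr, ← g.appLE_map le_top (homOfLE (P.basicOpen_le F)).op]
    rfl
  have hci : IsClosedImmersion (D.ι ≫ g) := by
    have h : D.ι ≫ g = hD.isoSpec.hom ≫ Spec.map (g.appLE ⊤ D le_top) ≫ htop.fromSpec := by
      rw [IsAffineOpen.SpecMap_appLE_fromSpec g htop hD le_top, ← Category.assoc, hD.isoSpec_hom_fromSpec]
    rw [h]
    have := IsClosedImmersion.spec_of_surjective _ hsD
    have : IsIso htop.fromSpec := by rw [IsAffineOpen.fromSpec_top]; infer_instance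
    infer_instance
  have : IsClosedImmersion D.ι := IsClosedImmersion.of_comp D.ι g
  have hcl : IsClosed (D : Set P) := by
    rw [← Scheme.Opens.range_ι D]
    exact D.ι.isClosedEmbedding.isClosed_range
  obtain ⟨e, he, heD⟩ := exists_idempotent D hcl
  refine ⟨e, he, heD ▸ hDp, ?_⟩
  rw [heD]
  infer_instance

end Groth.L23.IntCover
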