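import Groth.Agent.L23.IntCover.Alg
import Groth.Agent.L23.GenFinite
import Groth.Agent.L23.CoprodFinite
import Groth.Agent.L27.FEtGal.Split
import Mathlib.AlgebraicGeometry.Morphisms.FlatMono

/-!
# Generic splitting of etale separated quasi-compact morphisms
-/

universe u

open CategoryTheory CategoryTheory.Limits AlgebraicGeometry Opposite TopologicalSpace

set_option backward.isDefEq.respectTransparency.types false
set_option backward.isDefEq.respectTransparency false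
set_option linter.style.haveILetI false

namespace Groth.L23.IntCover

variable {R X' : Scheme.{u}}

/-- A point of a pullback of a split cover lies in a clopen piece mapping monomorphically. -/
theorem exists_clopen_of_split {T₀ W P Q : Scheme.{u}} {f : R ⟶ X'} {w : W ⟶ X'} [Etale f] [IsSeparated f]
    {fR : P ⟶ R} {fW : P ⟶ W} (hP : IsPullback fR fW f w) (σ : T₀ ⟶ W) [IsOpenImmersion σ] [IsClosedImmersion σ]
    {qR : Q ⟶ R} {qT : Q ⟶ T₀} (hQ : IsPullback qR qT f (σ ≫ w)) {n : ℕ} (e : Q ≅ ∐ fun _ : Fin n => T₀)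
    (he : ∀ i, Sigma.ι (fun _ : Fin n => T₀) i ≫ e.inv ≫ qT = 𝟙 T₀) (p : P) (hp : fW p ∈ Set.range σ) :
    ∃ d : Γ(P, ⊤), d * d = d ∧ p ∈ P.basicOpen d ∧ Mono ((P.basicOpen d).ι ≫ fW) := by
  haveI : Etale fW := MorphismProperty.of_isPullback hP ‹Etale f›
  haveI : IsSeparated fW := MorphismProperty.of_isPullback hP ‹IsSeparated f›
  obtain ⟨m, hm₁, hm₂⟩ := hP.exists_lift qR (qT ≫ σ) (by rw [Category.assoc]; exact hQ.w)
  have sq : IsPullback m qT fW σ := IsPullback.of_right (by rw [hm₁]; exact hQ) hm₂ hP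
  obtain ⟨t, ht⟩ := hp
  obtain ⟨q, hq, -⟩ := Scheme.exists_preimage_of_isPullback sq p t ht.symm
  obtain ⟨i, x, hx⟩ : ∃ (i : Fin n) (x : T₀), Sigma.ι (fun _ : Fin n => T₀) i x = e.hom q := by
    obtain ⟨i, x, hx⟩ := (sigmaOpenCover fun _ : Fin n => T₀).exists_eq (e.hom q)
    exact ⟨i, x, hx⟩
  let l : T₀ ⟶ P := Sigma.ι (fun _ : Fin n => T₀) i ≫ e.inv ≫ m
  have hl : l ≫ fW = σ := by
    show (Sigma.ι (fun _ : Fin n => T₀) i ≫ e.inv ≫ m) ≫ fW = σ
    simp only [Category.assoc, sq.w]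
    rw [← Category.assoc e.inv, ← Category.assoc, he i, Category.id_comp]
  have hlp : l x = p := by
    show (Sigma.ι (fun _ : Fin n => T₀) i ≫ e.inv ≫ m) x = p
    rw [Scheme.Hom.comp_apply, Scheme.Hom.comp_apply, hx, ← Scheme.Hom.comp_apply e.hom e.inv,
      e.hom_inv_id]
    exact hq
  haveI : IsClosedImmersion l := by
    haveI : IsClosedImmersion (l ≫ fW) := by rw [hl]; infer_instance
    exact IsClosedImmersion.of_comp l fW
  haveI : Etale l := by
    haveI : Etale (l ≫ fW) := by rw [hl]; infer_instance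
    exact Etale.of_comp l fW
  haveI : IsOpenImmersion l := IsOpenImmersion.of_flat_of_mono l
  obtain ⟨d, hd, hdK⟩ := exists_idempotent l.opensRange l.isClosedEmbedding.isClosed_range
  refine ⟨d, hd, hdK ▸ ⟨x, hlp⟩, ?_⟩
  rw [hdK, ← Scheme.Hom.isoOpensRange_inv_comp l, Category.assoc, hl]
  infer_instance

theorem connectedSpace_of_subset_component {C : Set X'} (hC : C ∈ irreducibleComponents X') (A : X'.Opens)
    (hA : (A : Set X').Nonempty) (hAC : (A : Set X') ⊆ C) : ConnectedSpace (A : Scheme.{u}) := by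
  have hirr : IsIrreducible (A : Set X') := ⟨hA, fun U V hU hV ⟨x, hxA, hxU⟩ ⟨y, hyA, hyV⟩ => by
    obtain ⟨z, hzC, ⟨hzA, hzU⟩, -, hzV⟩ := hC.1.2 ((A : Set X') ∩ U) ((A : Set X') ∩ V)
      (A.isOpen.inter hU) (A.isOpen.inter hV) ⟨x, hAC hxA, hxA, hxU⟩ ⟨y, hAC hyA, hyA, hyV⟩
    exact ⟨z, hzA, hzU, hzV⟩⟩
  exact Subtype.connectedSpace hirr.isConnected

/-- A dense affine open over which a morphism splits after a finite etale surjective base change. -/
theorem exists_split_cover (f : R ⟶ X') [Etale f] [QuasiCompact f] [IsSeparated f]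
    (hirr : (irreducibleComponents X').Finite) :
    ∃ (T : X'.Opens) (W : Scheme.{u}) (w : W ⟶ (T : Scheme.{u})), IsAffineOpen T ∧ Dense (T : Set X') ∧
      IsAffine W ∧ IsFinite w ∧ Etale w ∧ Surjective w ∧
      ∀ (P : Scheme.{u}) (fR : P ⟶ R) (fW : P ⟶ W), IsPullback fR fW f (w ≫ T.ι) →
        ∀ p : P, ∃ d : Γ(P, ⊤), d * d = d ∧ p ∈ P.basicOpen d ∧ Mono ((P.basicOpen d).ι ≫ fW) := by
  let J := irreducibleComponents X'
  haveI : Finite J := hirr.to_subtype
  choose η hη using fun C : J => QuasiSober.sober C.2.1 (isClosed_of_mem_irreducibleComponents C.1 C.2)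
  have hηmax : ∀ (C : J) (q : X'), q ⤳ η C → q = η C := fun C q hq => by
    have h : C.1 ⊆ closure {q} := by
      rw [← (hη C).def]
      exact closure_minimal (Set.singleton_subset_iff.2 (specializes_iff_mem_closure.1 hq)) isClosed_closure
    have h' : C.1 = closure {q} := h.antisymm (C.2.2 isIrreducible_singleton.closure h)
    exact (hq.antisymm (specializes_iff_mem_closure.2 (by
      rw [(hη C).def, h']; exact subset_closure rfl))).eq
  have hW : ∀ C : J, ∃ B : X'.Opens, η C ∈ B ∧ IsFinite (f ∣_ B) := fun C => by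
    haveI : LocallyQuasiFinite (f ∣_ (⊤ : X'.Opens)) :=
      IsZariskiLocalAtTarget.restrict (inferInstance : LocallyQuasiFinite f) ⊤
    obtain ⟨B, -, hB, hBf⟩ := GenFin.exists_isFinite_nhd f (hηmax C) ⊤ trivial inferInstance
    exact ⟨B, hB, hBf⟩
  choose B hηB hBf using hW
  let others : J → Set X' := fun C => ⋃ D : {D : J // D ≠ C}, D.1.1
  have hnot : ∀ C : J, η C ∉ others C := fun C h => by
    obtain ⟨⟨D, hD⟩, hηD⟩ := Set.mem_iUnion.1 h
    refine hD (Subtype.ext ?_).symm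
    have : C.1 ⊆ D.1 := by
      rw [← (hη C).def]
      exact closure_minimal (Set.singleton_subset_iff.2 hηD) (isClosed_of_mem_irreducibleComponents D.1 D.2)
    exact this.antisymm (C.2.2 D.2.1 this)
  have hA : ∀ C : J, ∃ A : X'.Opens, IsAffineOpen A ∧ η C ∈ A ∧ A ≤ B C ∧ Disjoint (A : Set X') (others C) := by
    intro C
    have hcl : IsClosed (others C) := isClosed_iUnion_of_finite fun D =>
      isClosed_of_mem_irreducibleComponents D.1.1 D.1.2
    obtain ⟨_, ⟨A, hA, rfl⟩, hηA, hAs⟩ := X'.isBasis_affineOpens.exists_subset_of_mem_open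
      (show η C ∈ ((B C : Set X') ∩ (others C)ᶜ) from ⟨hηB C, hnot C⟩) ((B C).isOpen.inter hcl.isOpen_compl)
    exact ⟨A, hA, hηA, fun x hx => (hAs hx).1, Set.disjoint_left.2 fun x hx => (hAs hx).2⟩
  choose A hAa hηA hAB hAd using hA
  have hAC : ∀ C, (A C : Set X') ⊆ C.1 := fun C x hx => by
    obtain ⟨D, hD, hxD⟩ : ∃ D ∈ irreducibleComponents X', x ∈ D := by
      have h := Set.mem_univ x
      rw [← sUnion_irreducibleComponents] at h
      exact h
    by_contra hxC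
    exact Set.disjoint_left.1 (hAd C) hx (Set.mem_iUnion.2 ⟨⟨⟨D, hD⟩, fun h => hxC (h ▸ hxD)⟩, hxD⟩)
  have hdisj : Pairwise fun C D => Disjoint (A C) (A D) := fun C D hne => by
    show Disjoint (A C) (A D)
    rw [← TopologicalSpace.Opens.coe_disjoint]
    exact Set.disjoint_left.2 fun x hx hx' =>
      Set.disjoint_left.1 (hAd D) hx' (Set.mem_iUnion.2 ⟨⟨C, hne⟩, hAC C hx⟩)
  let T : X'.Opens := ⨆ C, A C
  have hTa : IsAffineOpen T := IsAffineOpen.iSup_of_disjoint hAa hdisj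
  haveI : IsAffine (T : Scheme.{u}) := hTa
  have hTd : Dense (T : Set X') := fun x => by
    obtain ⟨D, hD, hxD⟩ : ∃ D ∈ irreducibleComponents X', x ∈ D := by
      have h := Set.mem_univ x
      rw [← sUnion_irreducibleComponents] at h
      exact h
    refine closure_mono (Set.singleton_subset_iff.2 ?_) ((hη ⟨D, hD⟩).def.ge hxD)
    exact Opens.mem_iSup.2 ⟨⟨D, hD⟩, hηA ⟨D, hD⟩⟩
  have hsplit : ∀ C : J, ∃ (T₀ : Scheme.{u}) (w₀ : T₀ ⟶ (A C : Scheme.{u})), IsFinite w₀ ∧ Etale w₀ ∧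
      Surjective w₀ ∧ ∃ (Q : Scheme.{u}) (qR : Q ⟶ R) (qT : Q ⟶ T₀), IsPullback qR qT f (w₀ ≫ (A C).ι) ∧
      ∃ (n : ℕ) (e : Q ≅ ∐ fun _ : Fin n => T₀), ∀ i, Sigma.ι (fun _ : Fin n => T₀) i ≫ e.inv ≫ qT = 𝟙 T₀ := by
    intro C
    haveI := connectedSpace_of_subset_component C.2 (A C) ⟨η C, hηA C⟩ (hAC C)
    haveI : IsFinite (f ∣_ B C) := hBf C
    haveI : IsFinite (f ∣_ A C) := GenFin.isFinite_restrict_le f (hAB C)
    haveI : Etale (f ∣_ A C) := IsZariskiLocalAtTarget.restrict ‹Etale f› _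
    let Z : FEt.Cat (A C : Scheme.{u}) := MorphismProperty.Over.mk ⊤ (f ∣_ A C) ⟨‹_›, ‹_›⟩
    obtain ⟨Ω, _, _, ξ, -⟩ := Groth.L27.FEtGal.exists_geometric (X := (A C : Scheme.{u})) ⟨η C, hηA C⟩
    obtain ⟨T₀, hs, -, n, e, he⟩ := Groth.L27.FEtGal.exists_split ξ Z
    refine ⟨T₀.left, T₀.hom, T₀.prop.1, T₀.prop.2, hs, _, _, _,
      (IsPullback.of_hasPullback (f ∣_ A C) T₀.hom).paste_horiz (isPullback_morphismRestrict f (A C)).flip,
      n, e, he⟩
  choose T₀ w₀ hfin het hsur Q qR qT hQ n e he using hsplit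
  haveI : ∀ C, IsAffine (A C : Scheme.{u}) := hAa
  haveI : ∀ C, IsAffine (T₀ C) := fun C => by haveI := hfin C; exact isAffine_of_isAffineHom (w₀ C)
  let wC : ∀ C, T₀ C ⟶ (T : Scheme.{u}) := fun C => w₀ C ≫ X'.homOfLE (le_iSup A C)
  have hclo : ∀ C, IsClosedImmersion (X'.homOfLE (le_iSup A C)) := fun C => by
    refine IsClosedImmersion.of_isPreimmersion _ ?_
    have hr : Set.range (X'.homOfLE (le_iSup A C)) = (⋃ D : {D : J // D ≠ C}, T.ι ⁻¹' (A D.1 : Set X'))ᶜ := by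
      ext t
      have ht : ∃ D, t.1 ∈ A D := Opens.mem_iSup.1 t.2
      constructor
      · rintro ⟨a, rfl⟩ h
        obtain ⟨⟨D, hD⟩, haD⟩ := Set.mem_iUnion.1 h
        change (X'.homOfLE (le_iSup A C) ≫ T.ι) a ∈ A D at haD
        rw [Scheme.homOfLE_ι] at haD
        exact Set.disjoint_left.1 (Opens.coe_disjoint.2 (hdisj hD)) haD a.2
      · intro h
        obtain ⟨D, hD⟩ := ht
        by_cases hDC : D = C
        · subst hDC
          exact ⟨⟨t.1, hD⟩, T.ι.isOpenEmbedding.injective (by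
            rw [← Scheme.Hom.comp_apply, Scheme.homOfLE_ι]; rfl)⟩
        · exact absurd (Set.mem_iUnion.2 ⟨⟨D, hDC⟩, hD⟩) h
    rw [hr]
    exact (isOpen_iUnion fun D : {D : J // D ≠ C} => (A D.1).isOpen.preimage T.ι.continuous).isClosed_compl
  haveI : ∀ C, IsFinite (wC C) := fun C => by
    haveI := hfin C; haveI := hclo C
    exact inferInstanceAs (IsFinite (w₀ C ≫ _))
  refine ⟨T, ∐ T₀, Sigma.desc wC, hTa, hTd, inferInstance, Coprod.isFinite_sigmaDesc wC,
    IsZariskiLocalAtSource.sigmaDesc fun C => by haveI := het C; exact inferInstanceAs (Etale (w₀ C ≫ _)),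
    ⟨fun t => ?_⟩, fun P fR fW hP p => ?_⟩
  · obtain ⟨C, hC⟩ := Opens.mem_iSup.1 t.2
    obtain ⟨s, hs⟩ := (hsur C).surj ⟨t.1, hC⟩
    refine ⟨Sigma.ι T₀ C s, ?_⟩
    rw [← Scheme.Hom.comp_apply, Sigma.ι_desc]
    refine T.ι.isOpenEmbedding.injective ?_
    rw [← Scheme.Hom.comp_apply, Category.assoc, Scheme.homOfLE_ι, Scheme.Hom.comp_apply, hs]
    rfl
  obtain ⟨C, s, hs⟩ := (sigmaOpenCover T₀).exists_eq (fW p)
  haveI : IsOpenImmersion (Sigma.ι T₀ C) := inferInstance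
  haveI : IsClosedImmersion (Sigma.ι T₀ C) := by
    refine IsClosedImmersion.of_isPreimmersion _ ?_
    have hr : Set.range (Sigma.ι T₀ C) = (⋃ D : {D : J // D ≠ C}, Set.range (Sigma.ι T₀ D.1))ᶜ := by
      ext z
      constructor
      · rintro ⟨a, rfl⟩ h
        obtain ⟨⟨D, hD⟩, b, hb⟩ := Set.mem_iUnion.1 h
        exact Set.disjoint_left.1 (Opens.coe_disjoint.2 (disjoint_opensRange_sigmaι T₀ D C hD)) ⟨b, hb⟩ ⟨a, rfl⟩
      · intro h
        obtain ⟨D, b, hb⟩ := (sigmaOpenCover T₀).exists_eq z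
        by_cases hDC : D = C
        · subst hDC; exact ⟨b, hb⟩
        · exact absurd (Set.mem_iUnion.2 ⟨⟨D, hDC⟩, b, hb⟩ :
            z ∈ ⋃ D : {D : J // D ≠ C}, Set.range (Sigma.ι T₀ D.1)) h
    rw [hr]
    exact (isOpen_iUnion fun D : {D : J // D ≠ C} => (Sigma.ι T₀ D.1).isOpenEmbedding.isOpen_range).isClosed_compl
  have hσ : Sigma.ι T₀ C ≫ Sigma.desc wC ≫ T.ι = w₀ C ≫ (A C).ι := by
    rw [Sigma.ι_desc_assoc, Category.assoc, Scheme.homOfLE_ι]
  exact exists_clopen_of_split hP (Sigma.ι T₀ C) (hσ ▸ hQ C) (e C) (he C) p ⟨s, hs⟩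

end Groth.L23.IntCover
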