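import Groth.Agent.L23.IntCover.General
import Groth.Agent.L23.IntCover.Split
import Groth.Agent.L23.EtaleGlue
import Groth.Agent.S10397
import Groth.Agent.S10350

/-!
# An integral cover by a scheme, finite etale over a dense open
-/

universe u

open CategoryTheory CategoryTheory.Limits AlgebraicGeometry Opposite AlgSp TopologicalSpace

set_option backward.isDefEq.respectTransparency.types false
set_option backward.isDefEq.respectTransparency false
set_option linter.style.haveILetI false

namespace Groth.L23.IntCover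

variable {S : Scheme.{u}} {X : Sp S}

/-- Pullbacks of an affine chart are separated over the other factor. -/
theorem isSeparated_of_chart_pullback {A V P : Over S} [IsAffine V.left] {φ : (yon S).obj A ⟶ X}
    {v : (yon S).obj V ⟶ X} {a : P ⟶ A} {b : P ⟶ V}
    (sq : IsPullback ((yon S).map a) ((yon S).map b) φ v) : IsSeparated a.left := by
  let l : P ⟶ A ⨯ V := prod.lift a b
  haveI : Mono l := ⟨fun g h e => (yon S).map_injective (sq.hom_ext
    (by rw [← Functor.map_comp, ← Functor.map_comp]
        exact congrArg _ (by simpa [l] using e =≫ prod.fst))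
    (by rw [← Functor.map_comp, ← Functor.map_comp]
        exact congrArg _ (by simpa [l] using e =≫ prod.snd)))⟩
  haveI : Mono l.left := inferInstanceAs (Mono ((Over.forget S).map l))
  have sq' := (IsPullback.of_is_product (limit.isLimit (pair A V))
    (terminalIsTerminal : IsTerminal (⊤_ Over S))).map (Over.forget S)
  haveI : IsSeparated (terminal.from V).left := by
    haveI : IsSeparated ((terminal.from V).left ≫ (⊤_ Over S).hom) := by
      rw [Over.w]; exact isSeparated_of_isAffine_source
    exact IsSeparated.of_comp _ (⊤_ Over S).hom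
  haveI : IsSeparated (prod.fst : A ⨯ V ⟶ A).left :=
    MorphismProperty.of_isPullback sq'.flip ‹IsSeparated (terminal.from V).left›
  rw [show a = l ≫ prod.fst from (prod.lift_fst _ _).symm, Over.comp_left]
  infer_instance

/-- The normalization in `W` is `W` where it is already integral. -/
theorem exists_iso_of_isNorm {Z W N : Over S} {w : W ⟶ Z} [IsIntegralHom w.left] {νN : N ⟶ Z}
    {γ : (yon S).obj W ⟶ (yon S).obj N} (h : Norm.IsNorm ((yon S).map w) νN γ) :
    ∃ θ : N ≅ W, θ.hom ≫ w = νN := by
  have hW : Norm.IsNorm ((yon S).map w) w (𝟙 _) := by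
    refine ⟨‹_›, Category.id_comp _, fun M μ hμ g hg => ?_⟩
    obtain ⟨g, rfl⟩ := (yon S).map_surjective g
    exact ⟨g, ⟨(yon S).map_injective (by rw [Functor.map_comp]; exact hg), Category.id_comp _⟩,
      fun k hk => (yon S).map_injective ((Category.id_comp _).symm.trans hk.2)⟩
  obtain ⟨θ, hθ, -⟩ := h.exists_iso hW
  exact ⟨θ, hθ⟩

set_option maxHeartbeats 800000 in
/-- An integral surjective cover by a scheme, finite etale over a dense quasi-compact open. -/
theorem exists_scheme_finite_etale [QuasiSeparatedSpace S] (X : Space S) (hqc : IsQuasiCompactSp X.obj)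
    (hqs : IsQuasiSeparatedSp X.obj) (hirr : (irreducibleComponents (Points X.obj)).Finite)
    {V : Over S} (b : (yon S).obj V ⟶ X.obj) (hb : RepWith @Etale b) (hbs : RepWith @Surjective b) :
    ∃ (Y : Over S) (g : (yon S).obj Y ⟶ X.obj) (U : Space S) (jU : U ⟶ X),
      RepWith @IsIntegralHom g ∧ RepWith @Surjective g ∧
      RepWith @IsOpenImmersion jU.hom ∧ IsQuasiCompactSp U.obj ∧ Dense (Set.range (Points.map jU.hom)) ∧
      (∀ (P : Sp S) (fst : P ⟶ (yon S).obj Y) (snd : P ⟶ U.obj), IsPullback fst snd g jU.hom →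
        RepWith @IsFinite snd ∧ RepWith @Etale snd) ∧
      ∀ y : ↥Y.left, ∃ (W : Y.left.Opens) (c : openOver Y W ⟶ V), y ∈ W ∧
        (yon S).map c ≫ b = (yon S).map (openOverι Y W) ≫ g := by
  obtain ⟨X', j, hj, hjd, hirr', -⟩ := (Groth.Agent.S10397.result X).1 ⟨Groth.Agent.S10350.result X hqs, hirr⟩
  obtain ⟨U₀, p₀, hU₀, hp₀, hp₀s⟩ := Qs.exists_affine_atlas X.property hqc
  obtain ⟨V', e, m, hV', he, hes, hm⟩ := exists_affine_refine hb hbs p₀
  let c : Norm.Chart X.obj := ⟨V', (yon S).map m ≫ b, hm ▸ repWith_comp (repWith_map he) hp₀⟩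
  have hcs : RepWith @Surjective c.v := by
    show RepWith @Surjective ((yon S).map m ≫ b)
    rw [hm]; exact repWith_comp (repWith_map hes) hp₀s
  have hcqc : RepWith @QuasiCompact c.v := repWith_quasiCompact_of_isQuasiCompactMor c.etale.1
    (qcMor_of_qc_source (IsAlgSpace.yon_obj _) X.property isQuasiCompactSp_of_compactSpace hqs c.v)
  obtain ⟨R, rV, rX, sR⟩ := exists_isPullback_of_representable c.etale.1 j
  haveI : Etale rX.left := repWith_prop c.etale sR
  haveI : QuasiCompact rX.left := repWith_prop hcqc sR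
  haveI : IsSeparated rX.left := isSeparated_of_chart_pullback sR.flip
  obtain ⟨T, W, w, hTa, hTd, hWa, hwf, hwe, hws, hsplit⟩ := exists_split_cover rX.left hirr'
  let TT : Over S := openOver X' T
  haveI : IsAffine TT.left := hTa
  let EV : Over S := Over.mk (w ≫ TT.hom)
  haveI : IsAffine EV.left := hWa
  let w' : EV ⟶ TT := Over.homMk w
  let jT : (yon S).obj TT ⟶ X.obj := (yon S).map (openOverι X' T) ≫ j
  have hjT : RepWith @IsOpenImmersion jT :=
    repWith_comp (repWith_map (inferInstanceAs (IsOpenImmersion T.ι))) hj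
  let q : (yon S).obj EV ⟶ X.obj := (yon S).map w' ≫ jT
  obtain ⟨G, g, h, hloc, hGc⟩ := exists_normalization_scheme X.property hqs q c hcs
    fun P fE fV sP p => by
      obtain ⟨fR, hfR⟩ := (yon S).map_surjective (sR.lift ((yon S).map fV)
        ((yon S).map (fE ≫ w' ≫ openOverι X' T)) (by
          simp only [Functor.map_comp, Category.assoc]
          exact sP.w.symm))
      have hfRV : fR ≫ rV = fV := (yon S).map_injective (by rw [Functor.map_comp, hfR, sR.lift_fst])
      have hfRX : fR ≫ rX = fE ≫ w' ≫ openOverι X' T :=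
        (yon S).map_injective (by rw [Functor.map_comp, hfR, sR.lift_snd])
      have sq : IsPullback ((yon S).map fR) ((yon S).map fE) ((yon S).map rX)
          ((yon S).map (w' ≫ openOverι X' T)) := by
        refine IsPullback.of_right ?_ (by rw [← Functor.map_comp, ← Functor.map_comp, hfRX]) sR
        rw [← Functor.map_comp, hfRV, Functor.map_comp, Category.assoc]
        exact sP.flip
      exact hsplit P.left fR.left fE.left ((IsPullback.of_map (yon S) hfRX sq).map (Over.forget S)) p
  have hg : RepWith @IsIntegralHom g := isIntegralMor_iff.1 hloc.integral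
  have hgc : IsClosedMap (Points.map g) := EtaleGlue.isClosedMap_of_univClosed X.property
    ((repWith_universallyClosed_iff hg.1).1
      (repWith_mono (fun φ (_ : IsIntegralHom φ) => inferInstanceAs (UniversallyClosed φ)) hg))
  have hdense : Dense (Set.range (Points.map jT)) := by
    have h1 : Points.ofPt j '' (T : Set X'.left) ⊆ Set.range (Points.map jT) := by
      rintro _ ⟨t, ht, rfl⟩
      refine ⟨Points.ofScheme TT ⟨t, ht⟩, ?_⟩
      rw [← Points.ofPt_eq_map_ofScheme]
      exact ofPt_openMk T j ⟨t, ht⟩
    exact (DenseRange.dense_image hjd (Points.continuous_ofPt j) hTd).mono h1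
  refine ⟨G, g, ⟨(yon S).obj TT, IsAlgSpace.yon_obj TT⟩, ObjectProperty.homMk jT, hg,
    repWith_surjective_of_map hg.1 fun x => ?_, hjT, isQuasiCompactSp_of_compactSpace, hdense,
    fun P fst snd sP => ?_, fun y => ?_⟩
  · have hsub : Set.range (Points.map jT) ⊆ Set.range (Points.map g) := by
      rintro _ ⟨t, rfl⟩
      obtain ⟨s, rfl⟩ := surjective_map_of_repWith (repWith_map (g := w') hws) t
      exact ⟨Points.map h s, by rw [← Points.map_comp, hloc.fac, ← Points.map_comp]⟩
    have := (hdense.mono hsub).closure_eq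
    rw [hgc.isClosed_range.closure_eq] at this
    exact this.ge (Set.mem_univ x)
  · let cT : Norm.Chart X.obj := ⟨TT, jT, repWith_mono (Q := @Etale) (fun φ (_ : IsOpenImmersion φ) => inferInstanceAs (Etale φ)) hjT⟩
    haveI : Mono jT := mono_of_repWith_openImmersion hjT
    obtain ⟨N, νN, n, sN, -, -⟩ := hloc.integral (Z := TT) inferInstance jT
    have sq : IsPullback (𝟙 ((yon S).obj EV)) ((yon S).map w') q jT :=
      IsPullback.mk' (Category.id_comp _) (fun T k k' h₁ _ => by simpa using h₁)
        fun T a b e => ⟨a, Category.comp_id _, by rw [← cancel_mono jT, Category.assoc]; exact e⟩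
    have hγ := sN.exists_lift h ((yon S).map w') (by rw [hloc.fac])
    obtain ⟨γ, hγ₁, hγ₂⟩ := hγ
    have hN : Norm.IsNorm ((yon S).map w') νN γ :=
      hloc.norm cT _ _ _ sq N n νN sN γ (by rw [hγ₁, Category.id_comp]) hγ₂
    haveI : IsFinite w'.left := hwf
    obtain ⟨θ, hθ⟩ := exists_iso_of_isNorm hN
    have hsnd : snd = ((IsPullback.isoIsPullback _ _ sP sN).hom ≫ (yon S).map θ.hom) ≫ (yon S).map w' := by
      rw [Category.assoc, ← Functor.map_comp, hθ, IsPullback.isoIsPullback_hom_snd]
    rw [hsnd]
    exact ⟨repWith_comp (repWith_of_isIso _) (repWith_map hwf),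
      repWith_comp (repWith_of_isIso _) (repWith_map hwe)⟩
  · obtain ⟨O, k, hy, hk⟩ := hGc y
    exact ⟨O, k ≫ m, hy, by rw [Functor.map_comp_assoc]; exact hk⟩

end Groth.L23.IntCover
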