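import Groth.Agent.L23.IntCover.Finite
import Groth.Agent.L23.IntCover.FiniteEtale
import Groth.Agent.L23.ZMT.IsoOver

/-!
# A finitely presented finite cover by a scheme, finite etale over a dense open
-/

universe u

open CategoryTheory CategoryTheory.Limits AlgebraicGeometry Opposite AlgSp

set_option backward.isDefEq.respectTransparency.types false
set_option backward.isDefEq.respectTransparency false
set_option linter.style.haveILetI false

namespace Groth.L23.IntCover

variable {S : Scheme.{u}}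

theorem exists_scheme_finite_dense [QuasiSeparatedSpace S] (X : Space S) (hqc : IsQuasiCompactSp X.obj)
    (hqs : IsQuasiSeparatedSp X.obj) (hirr : (irreducibleComponents (Points X.obj)).Finite)
    (V : Over S) (p : (yon S).obj V ⟶ X.obj) (hpe : RepWith @Etale p) (hps : RepWith @Surjective p) :
    ∃ (Y : Over S) (g : (yon S).obj Y ⟶ X.obj) (U : Space S) (j : U ⟶ X),
      IsFiniteMor g ∧ IsSurjectiveMor g ∧ IsFinitePresentationMor g ∧
      RepWith @IsOpenImmersion j.hom ∧ IsQuasiCompactSp U.obj ∧ Dense (Set.range (Points.map j.hom)) ∧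
      (∀ (P : Sp S) (fst : P ⟶ (yon S).obj Y) (snd : P ⟶ U.obj), IsPullback fst snd g j.hom →
        IsFiniteMor snd ∧ IsEtaleMor snd) ∧
      ∀ y : ↥Y.left, ∃ (W : Y.left.Opens), y ∈ W ∧
        ∃ k : openOver Y W ⟶ V, (yon S).map k ≫ p = (yon S).map (openOverι Y W) ≫ g := by
  obtain ⟨Y, g, U, j, hg, hgs, hj, hUqc, hd, hfe, hgU⟩ := exists_scheme_finite_etale X hqc hqs hirr p hpe hps
  have sq := IsPullback.of_hasPullback g j.hom
  have hPV : IsAlgSpace (pullback g j.hom) :=
    isAlgSpace_of_isPullback X.property.diag (IsAlgSpace.yon_obj Y) U.property sq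
  obtain ⟨hfin, het⟩ := hfe _ _ _ sq
  have hlfp : LocP @LocallyOfFinitePresentation (pullback.snd g j.hom) :=
    locP_mono (fun φ (_ : Etale φ) => inferInstanceAs (LocallyOfFinitePresentation φ))
      (locP_of_repWith etLocal_etale het)
  have hfp : IsFinitePresentationMor (pullback.snd g j.hom) :=
    ⟨hlfp, isQuasiCompactMor_of_repWith (repWith_mono (fun φ (_ : IsFinite φ) => inferInstanceAs (QuasiCompact φ)) hfin),
      RelSpec.isQuasiSeparatedMor_of_isFinite hfin⟩
  obtain ⟨I, _, _, _, D, t, c, hc, e, hD, haff, ht, htg, hiso⟩ :=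
    Groth.L23.ZMT.exists_limit_iso_over (X := (yon S).obj Y) (IsAlgSpace.yon_obj Y) (f := g)
      hg hqc hqs (V := U) (j := j.hom) hj hUqc sq (isFiniteMor_iff.2 hfin) hfp
  obtain ⟨i, Y', φ, h₁, h₂, h₃, h₄⟩ :=
    exists_scheme_stage X hqc hqs hpe hg hgs hgU D t c hc e hD haff ht htg
  refine ⟨Y', φ.hom ≫ t.app i, U, j, h₁, h₂, h₃, hj, hUqc, hd, fun P fst snd sP => ?_, h₄⟩
  have sPi : IsPullback (fst ≫ φ.hom) snd (t.app i) j.hom :=
    sP.of_iso (Iso.refl _) φ (Iso.refl _) (Iso.refl _) (by simp) (by simp) (by simp) (by simp)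
  obtain ⟨k, hk₁, hk₂⟩ := sPi.exists_lift (pullback.fst g j.hom ≫ e.inv ≫ c.π.app i) (pullback.snd g j.hom) (by
    rw [Category.assoc, Category.assoc, htg i]; exact pullback.condition)
  haveI : IsIso k := hiso i P (fst ≫ φ.hom) snd sPi k hk₁ hk₂
  have hsnd : snd = inv k ≫ pullback.snd g j.hom := by rw [← hk₂, IsIso.inv_hom_id_assoc]
  have hf' : RepWith @IsFinite snd := hsnd ▸ repWith_comp (repWith_of_isIso _) hfin
  have he' : RepWith @Etale snd := hsnd ▸ repWith_comp (repWith_of_isIso _) het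
  exact ⟨isFiniteMor_iff.2 hf', (isEtaleMor_iff_locP
    (isAlgSpace_of_isPullback X.property.diag (IsAlgSpace.yon_obj Y') U.property sP) U.property snd).2
    (locP_of_repWith etLocal_etale he')⟩

end Groth.L23.IntCover
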