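import Groth.Agent.L23.IntCover.Main

/-!
# Normalizations which are schemes
-/

universe u

open CategoryTheory CategoryTheory.Limits AlgebraicGeometry Opposite AlgSp

set_option backward.isDefEq.respectTransparency.types false
set_option backward.isDefEq.respectTransparency false
set_option linter.style.haveILetI false

namespace Groth.L23.IntCover

variable {S : Scheme.{u}} {X X' : Sp S} {EV : Over S} {q : (yon S).obj EV ⟶ X} {ν : X' ⟶ X}
  {f' : (yon S).obj EV ⟶ X'} {c : Norm.Chart X} (D : Piece ν f' c)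

/-- Every point of the normalization lies in an open piece. -/
theorem Piece.exists_cover' [QuasiSeparatedSpace S] [CompactSpace EV.left] (hqs : IsQuasiSeparatedSp X)
    (hloc : Norm.IsLocNorm q ν f') (hq : IsQuasiSeparatedMor q) (hclop : ∀ p : D.P.left, ∃ e : Γ(D.P.left, ⊤), e * e = e ∧ p ∈ D.P.left.basicOpen e ∧
      Mono ((D.P.left.basicOpen e).ι ≫ D.fE.left)) (y : D.N.left) :
    ∃ b : Γ(D.N.left, ⊤), b * b = b ∧ y ∈ D.N.left.basicOpen b ∧
      Mono ((D.P.left.basicOpen (D.γ.left.appTop.hom b)).ι ≫ D.fE.left) := by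
  haveI := D.compactSpace hqs
  choose e he hp hm using hclop
  obtain ⟨s, hs⟩ := (isCompact_univ : IsCompact (Set.univ : Set D.P.left)).elim_finite_subcover
    (fun p => (D.P.left.basicOpen (e p) : Set D.P.left)) (fun p => (D.P.left.basicOpen (e p)).2)
    (fun p _ => Set.mem_iUnion.2 ⟨p, hp p⟩)
  obtain ⟨hinj, hsurj⟩ := D.norm hqs hloc hq
  choose b hb using fun p => hsurj (e p) (he p)
  have hbb : ∀ p, b p * b p = b p := fun p => hinj (by rw [map_mul, hb, he])
  by_contra hy
  have hprod : ∏ p ∈ s, (1 - b p) = 0 := hinj (by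
    rw [map_prod, map_zero]
    simp only [map_sub, map_one, hb]
    have hbot : D.P.left.basicOpen (∏ p ∈ s, (1 - e p)) = ⊥ := by
      refine TopologicalSpace.Opens.ext (Set.eq_empty_iff_forall_notMem.2 fun x hx => ?_)
      obtain ⟨p, hps, hxp⟩ : ∃ p ∈ s, x ∈ D.P.left.basicOpen (e p) := by simpa using hs (Set.mem_univ x)
      obtain ⟨r, hr⟩ := Finset.dvd_prod_of_mem (fun p => 1 - e p) hps
      rw [hr, Scheme.basicOpen_mul] at hx
      have h0 : x ∈ D.P.left.basicOpen (e p * (1 - e p)) := by rw [Scheme.basicOpen_mul]; exact ⟨hxp, hx.1⟩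
      rw [mul_sub, mul_one, he, sub_self, Scheme.basicOpen_zero] at h0
      exact h0
    have hidem : ∀ t : Finset D.P.left, (∏ p ∈ t, (1 - e p)) * ∏ p ∈ t, (1 - e p) = ∏ p ∈ t, (1 - e p) := fun t => by
      rw [← Finset.prod_mul_distrib]
      exact Finset.prod_congr rfl fun p _ => by linear_combination he p
    have h := idem_mul_eq_zero (hidem s) (d := ∏ p ∈ s, (1 - e p)) (by
      rw [Scheme.Opens.ι_appTop]
      haveI : Subsingleton Γ((D.P.left.basicOpen (∏ p ∈ s, (1 - e p))).toScheme, ⊤) := by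
        haveI : IsEmpty (D.P.left.basicOpen (∏ p ∈ s, (1 - e p))).toScheme :=
          ⟨fun x => by have := hbot.le x.2; exact this⟩
        infer_instance
      exact Subsingleton.elim _ _)
    rwa [hidem] at h)
  have hy' : y ∈ D.N.left.basicOpen (∏ p ∈ s, (1 - b p)) := by
    rw [Scheme.mem_basicOpen_top, map_prod]
    refine IsUnit.prod_iff.2 fun p _ => ?_
    rw [map_sub, map_one]
    rcases IsLocalRing.isUnit_or_isUnit_of_add_one (add_sub_cancel (D.N.left.presheaf.Γgerm y (b p)) 1) with h | h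
    · refine absurd ⟨b p, hbb p, (Scheme.mem_basicOpen_top _ _ _).2 h, ?_⟩ hy
      rw [hb]
      exact hm p
    · exact h
  rw [hprod, Scheme.basicOpen_zero] at hy'
  exact hy'

/-- Normalizations compose with isomorphisms of the source. -/
theorem isLocNorm_of_iso {G : Sp S} (θ : G ⟶ X') [IsIso θ] (hloc : Norm.IsLocNorm q ν f') :
    Norm.IsLocNorm q (θ ≫ ν) (f' ≫ inv θ) where
  fac := by rw [Category.assoc, IsIso.inv_hom_id_assoc, hloc.fac]
  integral := isIntegralMor_iff.2 (repWith_comp (repWith_of_isIso θ) (isIntegralMor_iff.1 hloc.integral))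
  norm c P fP q' sq N n νN sN γ h₁ h₂ := by
    refine hloc.norm c P fP q' sq N (n ≫ θ) νN ?_ γ ?_ h₂
    · exact sN.of_iso (Iso.refl _) (asIso θ) (Iso.refl _) (Iso.refl _) (by simp) (by simp) (by simp) (by simp)
    · rw [← Category.assoc, h₁, Category.assoc, Category.assoc, IsIso.inv_hom_id, Category.comp_id]

set_option maxHeartbeats 800000 in
/-- The normalization in an affine scheme splitting a surjective chart into pieces is a scheme. -/
theorem exists_normalization_scheme [QuasiSeparatedSpace S] (hX : IsAlgSpace X) (hqs : IsQuasiSeparatedSp X)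
    [CompactSpace EV.left] [QuasiSeparatedSpace EV.left] (q : (yon S).obj EV ⟶ X) (c : Norm.Chart X) (hcs : RepWith @Surjective c.v)
    (hclop : ∀ (P : Over S) (fE : P ⟶ EV) (fV : P ⟶ c.V), IsPullback ((yon S).map fE) ((yon S).map fV) q c.v →
      ∀ p : P.left, ∃ e : Γ(P.left, ⊤), e * e = e ∧ p ∈ P.left.basicOpen e ∧
        Mono ((P.left.basicOpen e).ι ≫ fE.left)) :
    ∃ (G : Over S) (g : (yon S).obj G ⟶ X) (h : (yon S).obj EV ⟶ (yon S).obj G), Norm.IsLocNorm q g h ∧
      ∀ y : ↥G.left, ∃ (W : G.left.Opens) (k : openOver G W ⟶ c.V), y ∈ W ∧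
        (yon S).map k ≫ c.v = (yon S).map (openOverι G W) ≫ g := by
  have hqq : IsQuasiSeparatedMor q := by
    haveI : Mono (prod.lift (pullback.fst q q) (pullback.snd q q)) := ⟨fun a b h => pullback.hom_ext
      (by simpa using h =≫ prod.fst) (by simpa using h =≫ prod.snd)⟩
    refine repWith_of_comp_mono (m := prod.lift (pullback.fst q q) (pullback.snd q q)) ?_
    rw [show pullback.diagonal q ≫ prod.lift (pullback.fst q q) (pullback.snd q q) = Limits.diag _ by
      ext <;> simp, repWith_diag_yon_iff]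
    haveI : QuasiSeparated EV.hom := inferInstance
    infer_instance
  obtain ⟨X', ν, f', hX', hloc⟩ := Norm.exists_isLocNorm hX q
    (qcMor_of_qc_source (IsAlgSpace.yon_obj EV) hX isQuasiCompactSp_of_compactSpace hqs q) hqq
  obtain ⟨D⟩ := exists_piece (f' := f') hX hloc.integral c
  have hne : RepWith @Etale D.n := repWith_of_isPullback D.sN.flip c.etale
  have hns : RepWith @Surjective D.n := repWith_of_isPullback D.sN.flip hcs
  have hpiece : ∀ y : D.N.left, ∃ B : D.N.left.Opens, y ∈ B ∧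
      RepWith @IsOpenImmersion ((yon S).map (openOverι D.N B) ≫ D.n) := fun y => by
    obtain ⟨bb, hbb, hy, hmono⟩ := D.exists_cover' hqs hloc hqq
      (hclop D.P D.fE D.fV (hloc.fac ▸ D.sP)) y
    refine ⟨_, hy, ?_⟩
    haveI := D.mono_openι hX hqs hloc hqq hbb hmono
    exact repWith_isOpenImmersion_of_etale_mono (IsAlgSpace.yon_obj _) hX' _ (locP_of_repWith etLocal_etale
      (repWith_comp (repWith_map (inferInstanceAs (Etale (D.N.left.basicOpen bb).ι))) hne))
  choose B hB hBo using hpiece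
  obtain ⟨G, θ, hθ⟩ := OpenCharts.exists_scheme_of_open_charts hX' fun x => by
    obtain ⟨y, rfl⟩ := surjective_ofPt hns x
    exact ⟨openOver D.N (B y), _, ⟨y, hB y⟩, hBo y, ofPt_openMk (B y) D.n ⟨y, hB y⟩⟩
  refine ⟨G, θ ≫ ν, f' ≫ inv θ, isLocNorm_of_iso θ hloc, fun g => ?_⟩
  obtain ⟨y, hy⟩ := surjective_ofPt hns (Points.ofPt θ g)
  obtain ⟨α, hα⟩ := (yon S).map_surjective (((yon S).map (openOverι D.N (B y)) ≫ D.n) ≫ inv θ)
  haveI hαo : IsOpenImmersion α.left := (repWith_yon_map_iff _ _).1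
    (hα ▸ repWith_comp (hBo y) (repWith_of_isIso (inv θ)))
  have hg : α.left ⟨y, hB y⟩ = g := by
    refine (Points.schemeEquiv G).injective ?_
    show Points.ofScheme G _ = Points.ofScheme G g
    apply (Function.LeftInverse.injective (g := Points.map (inv θ)) fun z => by
      rw [← Points.map_comp, IsIso.hom_inv_id, Points.map_id] : Function.Injective (Points.map θ))
    rw [← Points.ofPt_eq_map_ofScheme, ← Points.ofPt_eq_map_ofScheme, ← ofPt_comp, hα, Category.assoc,
      IsIso.inv_hom_id, Category.comp_id, ← hy]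
    exact ofPt_openMk (B y) D.n ⟨y, hB y⟩
  let β : openOver G α.left.opensRange ⟶ openOver D.N (B y) := Over.homMk α.left.isoOpensRange.inv (by
    show α.left.isoOpensRange.inv ≫ (openOver D.N (B y)).hom = α.left.opensRange.ι ≫ G.hom
    rw [← Over.w α, ← Category.assoc, Scheme.Hom.isoOpensRange_inv_comp])
  refine ⟨α.left.opensRange, β ≫ openOverι D.N (B y) ≫ D.νN, ⟨_, hg⟩, ?_⟩
  have hβ : β ≫ α = openOverι G α.left.opensRange :=
    Over.OverMorphism.ext (Scheme.Hom.isoOpensRange_inv_comp _)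
  rw [Functor.map_comp_assoc, Functor.map_comp_assoc, ← D.sN.w, ← hβ, Functor.map_comp_assoc, hα]
  simp only [Category.assoc, IsIso.inv_hom_id_assoc]

end Groth.L23.IntCover
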