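import Groth.Agent.L23.IntCover.Alg
import Groth.Agent.L23.NormAffine
import Groth.Agent.L23.QcCalc
import Mathlib.AlgebraicGeometry.Morphisms.Flat

/-!
# Idempotents and the normalization of a scheme
-/

universe u

open CategoryTheory CategoryTheory.Limits AlgebraicGeometry Opposite AlgSp

set_option backward.isDefEq.respectTransparency.types false
set_option backward.isDefEq.respectTransparency false
set_option linter.style.haveILetI false

namespace Groth.L23.IntCover

variable {S : Scheme.{u}}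

theorem appTop_injective_of_epi {X Y : Scheme.{u}} (p : X ⟶ Y) [Epi p] :
    Function.Injective p.appTop.hom := by
  intro x y h
  let R : CommRingCat.{u} := CommRingCat.of (Polynomial (ULift.{u} ℤ))
  let el : Γ(Y, ⊤) → (R ⟶ Γ(Y, ⊤)) := fun z =>
    CommRingCat.ofHom (Polynomial.eval₂RingHom ((Int.castRingHom _).comp ULift.ringEquiv.toRingHom) z)
  let t : Γ(Y, ⊤) → (Y ⟶ Spec R) := fun z => Y.toSpecΓ ≫ Spec.map (el z)
  have ht : ∀ z, (Scheme.ΓSpecIso R).inv ≫ (t z).appTop = el z := fun z => by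
    simp only [t, Scheme.Hom.comp_appTop, Scheme.toSpecΓ_appTop]
    rw [← Scheme.ΓSpecIso_inv_naturality_assoc, Iso.inv_hom_id, Category.comp_id]
  have hel : ∀ z, (el z).hom Polynomial.X = z := fun z => Polynomial.eval₂_X _ _
  have he : p ≫ t x = p ≫ t y := by
    apply ext_of_isAffine
    rw [Scheme.Hom.comp_appTop p (t x), Scheme.Hom.comp_appTop p (t y), ← cancel_epi (Scheme.ΓSpecIso R).inv,
      ← Category.assoc, ← Category.assoc, ht, ht]
    apply CommRingCat.hom_ext
    refine Polynomial.ringHom_ext (fun a => ?_) ?_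
    · obtain ⟨n⟩ := a
      simp [el]
    · rw [CommRingCat.hom_comp, CommRingCat.hom_comp, RingHom.comp_apply, RingHom.comp_apply, hel, hel, h]
  rw [← hel x, ← hel y, ← ht x, ← ht y, (cancel_epi p).1 he]

/-- The normalization of a scheme: global functions inject and contain the idempotents. -/
theorem norm_scheme {P Z N : Over S} [IsAffine Z.left] [CompactSpace P.left] {q : P ⟶ Z} {ν : N ⟶ Z}
    {γ : P ⟶ N} (h : Norm.IsNorm ((yon S).map q) ν ((yon S).map γ))
    (hqs : RepWith @QuasiCompact (pullback.diagonal ((yon S).map q))) :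
    Function.Injective γ.left.appTop.hom ∧
      ∀ e : Γ(P.left, ⊤), e * e = e → ∃ b, γ.left.appTop.hom b = e := by
  obtain ⟨U, R, p, r₁, r₂, hU, hR, hp⟩ :=
    Norm.exists_isPres ((yon S).map q) isQuasiCompactSp_of_compactSpace hqs
  obtain ⟨p₀, rfl⟩ := (yon S).map_surjective p
  obtain ⟨N₀, ν₀, γ₀, n, hN₀, hn, he, hN₀'⟩ :=
    Norm.exists_norm_of_pres ((yon S).map q) hp (p₀ ≫ q) ((yon S).map_comp _ _)
  obtain ⟨θ, hθ₁, hθ₂⟩ := h.exists_iso hN₀'
  have hn' : n = p₀ ≫ γ ≫ θ.hom := (yon S).map_injective (by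
    rw [hn, ← hθ₂, Functor.map_comp, Functor.map_comp])
  have hne : n.left.appTop = θ.hom.left.appTop ≫ γ.left.appTop ≫ p₀.left.appTop := by
    rw [hn', Over.comp_left, Over.comp_left, Scheme.Hom.comp_appTop, Scheme.Hom.comp_appTop, Category.assoc]
  haveI : IsIso θ.hom.left := inferInstanceAs (IsIso ((Over.forget S).map θ.hom))
  haveI : Etale p₀.left := (repWith_yon_map_iff _ _).1 hp.etale
  haveI : Surjective p₀.left := (repWith_yon_map_iff _ _).1 hp.surj
  haveI : Epi p₀.left := Flat.epi_of_flat_of_surjective _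
  have hpi := appTop_injective_of_epi p₀.left
  have hθb : Function.Bijective θ.hom.left.appTop.hom := ConcreteCategory.bijective_of_isIso θ.hom.left.appTop
  have hinj := he.inj
  rw [hne, CommRingCat.hom_comp, CommRingCat.hom_comp, RingHom.coe_comp, RingHom.coe_comp] at hinj
  refine ⟨fun x y hxy => ?_, fun e hee => ?_⟩
  · obtain ⟨x, rfl⟩ := hθb.2 x
    obtain ⟨y, rfl⟩ := hθb.2 y
    exact congrArg _ (hinj (congrArg p₀.left.appTop.hom hxy))
  · obtain ⟨b, hb⟩ := (he.mem_iff (p₀.left.appTop.hom e)).2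
      ⟨⟨Polynomial.X ^ 2 - Polynomial.X, Polynomial.monic_X_pow_sub (Polynomial.degree_X_le.trans_lt (by norm_num)), by
        simp [sq, ← map_mul, hee]⟩, by
      have := hp.w
      rw [← Functor.map_comp, ← Functor.map_comp] at this
      exact congr($((Norm.appTop_comp_eq ((yon S).map_injective this)).trans (Norm.appTop_comp_eq rfl).symm).hom e)⟩
    rw [hne, CommRingCat.hom_comp, CommRingCat.hom_comp, RingHom.comp_apply, RingHom.comp_apply] at hb
    exact ⟨_, hpi hb⟩

variable {P P' N N' E T : Scheme.{u}}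

/-- A function killed on `D(e)` is killed by the idempotent `e`. -/
theorem idem_mul_eq_zero [CompactSpace P] {e d : Γ(P, ⊤)} (he : e * e = e)
    (h : (P.basicOpen e).ι.appTop.hom d = 0) : e * d = 0 := by
  have hres : d |_ (P.basicOpen e) = 0 := by
    rw [Scheme.Opens.ι_appTop] at h
    change (P.presheaf.map (homOfLE le_top).op).hom d = 0
    have := congrArg ((P.basicOpen e).topIso.hom.hom) h
    rw [map_zero, ← RingHom.comp_apply, ← CommRingCat.hom_comp] at this
    convert this using 3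
    simp [Scheme.Opens.topIso_hom, ← Functor.map_comp]
  obtain ⟨n, hn⟩ := exists_pow_mul_eq_zero_of_res_basicOpen_eq_zero_of_isCompact P (U := ⊤) isCompact_univ d e hres
  have hpow : ∀ m, e * e ^ m = e := fun m => by
    induction m with
    | zero => simp
    | succ m ih => rw [pow_succ, ← mul_assoc, ih, he]
  calc e * d = e * e ^ n * d := by rw [hpow]
    _ = e * (e ^ n * d) := mul_assoc _ _ _
    _ = 0 := by rw [hn, mul_zero]

theorem isUnit_appTop_of_range {f : T ⟶ N} {b : Γ(N, ⊤)} (h : ∀ t, f t ∈ N.basicOpen b) :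
    IsUnit (f.appTop.hom b) := by
  let x := f.appTop.hom b
  have hx : T.basicOpen x = ⊤ := by
    rw [← Scheme.preimage_basicOpen_top]
    exact eq_top_iff.2 fun t _ => h t
  have := T.toRingedSpace.isUnit_res_basicOpen x
  change IsUnit ((T.presheaf.map (homOfLE (T.basicOpen_le x)).op).hom x) at this
  have hiso : IsIso (T.presheaf.map (homOfLE (T.basicOpen_le x)).op) := by
    have : IsIso (homOfLE (T.basicOpen_le x)) := ⟨homOfLE hx.ge, Subsingleton.elim _ _, Subsingleton.elim _ _⟩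
    infer_instance
  exact isUnit_map_iff (asIso (T.presheaf.map (homOfLE (T.basicOpen_le x)).op)).commRingCatIsoToRingEquiv x |>.1 this

/-- Two lifts agree where the idempotent cuts out a monomorphism. -/
theorem eq_of_idem [IsAffine N] [CompactSpace P'] {g : P ⟶ E} {γ : P ⟶ N} {γ' : P' ⟶ N'} {k₁ k₂ : N' ⟶ N}
    {w₁ w₂ : P' ⟶ P} (h₁ : γ' ≫ k₁ = w₁ ≫ γ) (h₂ : γ' ≫ k₂ = w₂ ≫ γ) (hg : w₁ ≫ g = w₂ ≫ g)
    (hinj : Function.Injective γ'.appTop.hom) {b : Γ(N, ⊤)} (hb : b * b = b) (K : P.Opens)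
    (hK : K = P.basicOpen (γ.appTop.hom b)) (hmono : Mono (K.ι ≫ g)) (w : T ⟶ N')
    (hw₁ : ∀ t, k₁ (w t) ∈ N.basicOpen b) (hw₂ : ∀ t, k₂ (w t) ∈ N.basicOpen b) :
    w ≫ k₁ = w ≫ k₂ := by
  apply ext_of_isAffine
  ext x
  let e' := γ'.appTop.hom (k₁.appTop.hom b * k₂.appTop.hom b)
  have he' : e' * e' = e' := by
    simp only [e', ← map_mul]
    congr 1
    rw [mul_mul_mul_comm, ← map_mul, ← map_mul, hb]
  have heq : ∀ (k : N' ⟶ N) (v : P' ⟶ P), γ' ≫ k = v ≫ γ →
      γ'.appTop.hom (k.appTop.hom b) = v.appTop.hom (γ.appTop.hom b) := fun k v e =>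
    congr($(congrArg Scheme.Hom.appTop e).hom b)
  have hle : ∀ (v : P' ⟶ P) (c : Γ(P', ⊤)), e' = v.appTop.hom (γ.appTop.hom b) * c →
      Set.range ((P'.basicOpen e').ι ≫ v) ⊆ Set.range K.ι := fun v c he => by
    rintro _ ⟨t, rfl⟩
    rw [Scheme.Opens.range_ι, hK]
    have := (congrArg P'.basicOpen he).le t.2
    rw [Scheme.basicOpen_mul, ← Scheme.preimage_basicOpen_top] at this
    exact this.1
  have r₁ := hle w₁ (γ'.appTop.hom (k₂.appTop.hom b)) (by rw [← heq _ _ h₁, ← map_mul])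
  have r₂ := hle w₂ (γ'.appTop.hom (k₁.appTop.hom b)) (by rw [← heq _ _ h₂, ← map_mul, mul_comm])
  have hl : IsOpenImmersion.lift K.ι _ r₁ = IsOpenImmersion.lift K.ι _ r₂ := by
    rw [← cancel_mono (K.ι ≫ g), IsOpenImmersion.lift_fac_assoc, IsOpenImmersion.lift_fac_assoc,
      Category.assoc, Category.assoc, hg]
  have hw : (P'.basicOpen e').ι ≫ γ' ≫ k₁ = (P'.basicOpen e').ι ≫ γ' ≫ k₂ := by
    rw [h₁, h₂, ← Category.assoc, ← IsOpenImmersion.lift_fac K.ι _ r₁, hl, IsOpenImmersion.lift_fac,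
      Category.assoc]
  have hd : (P'.basicOpen e').ι.appTop.hom (γ'.appTop.hom (k₁.appTop.hom x - k₂.appTop.hom x)) = 0 := by
    rw [map_sub, map_sub, sub_eq_zero]
    exact congr($(congrArg Scheme.Hom.appTop hw).hom x)
  have h0 : k₁.appTop.hom b * k₂.appTop.hom b * (k₁.appTop.hom x - k₂.appTop.hom x) = 0 :=
    hinj (by rw [map_mul, map_zero]; exact idem_mul_eq_zero he' hd)
  have h0' := congrArg w.appTop.hom h0
  simp only [map_mul, map_sub, map_zero] at h0'
  have hu₁ : IsUnit ((w ≫ k₁).appTop.hom b) := isUnit_appTop_of_range hw₁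
  have hu₂ : IsUnit ((w ≫ k₂).appTop.hom b) := isUnit_appTop_of_range hw₂
  exact sub_eq_zero.1 (((hu₁.mul hu₂).mul_right_eq_zero).1 h0')

end Groth.L23.IntCover
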